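import Mathlib
import Cfsg.Agent.Lib.Solv.Parts
import Cfsg.Agent.Lib.Solv.Hall
import Cfsg.Agent.Lib.Perm.NilpotentHall

/-!
Classes of `π`-elements: decomposition into commuting parts, and the fibre count.
-/

set_option autoImplicit false
set_option linter.style.haveILetI false

namespace Cfsg.Agent.Solv.PiCount

universe u v

variable {G : Type u} [Group G]

/-- All prime divisors of the order lie in `π`. -/
def PiEl (π : Finset ℕ) (g : G) : Prop := ∀ q : ℕ, q.Prime → q ∣ orderOf g → q ∈ π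

/-- The number of classes of `π`-elements. -/
noncomputable def kpi (π : Finset ℕ) (X : Type u) [Group X] : ℕ :=
  Nat.card {C : ConjClasses X // ∃ g : X, PiEl π g ∧ ConjClasses.mk g = C}

/-- The `π`-part of a number. -/
noncomputable def piPart (π : Finset ℕ) (n : ℕ) : ℕ := ∏ q ∈ π, q ^ n.factorization q

theorem piEl_one (π : Finset ℕ) : PiEl π (1 : G) := fun q hq h => by
  rw [orderOf_one, Nat.dvd_one] at h
  exact absurd h hq.ne_one

theorem PiEl.conj {π : Finset ℕ} {g : G} (h : PiEl π g) (c : G) : PiEl π (c * g * c⁻¹) := by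
  intro q hq hd
  refine h q hq ?_
  have e : orderOf (c * g * c⁻¹) = orderOf g :=
    orderOf_injective (MulAut.conj c).toMonoidHom (MulAut.conj c).injective g
  rwa [e] at hd

theorem PiEl.of_isConj {π : Finset ℕ} {g h : G} (hg : PiEl π g) (e : IsConj g h) : PiEl π h := by
  obtain ⟨c, rfl⟩ := isConj_iff.1 e
  exact hg.conj c

theorem PiEl.mono {π π' : Finset ℕ} {g : G} (h : PiEl π g) (hle : π ⊆ π') : PiEl π' g :=
  fun q hq hd => hle (h q hq hd)

theorem PiEl.mul {π : Finset ℕ} {v w : G} (hv : PiEl π v) (hw : PiEl π w) (hc : Commute v w) :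
    PiEl π (v * w) := fun q hq hd => by
  rcases (Nat.Prime.dvd_mul hq).1
    (hd.trans (hc.orderOf_mul_dvd_lcm.trans (Nat.lcm_dvd_mul _ _))) with h | h
  exacts [hv q hq h, hw q hq h]

theorem piEl_coe {H : Subgroup G} {π : Finset ℕ} {x : H} : PiEl π (x : G) ↔ PiEl π x := by
  simp only [PiEl, Subgroup.orderOf_coe]

/-- A representative of a class. -/
noncomputable def outC (C : ConjClasses G) : G := (ConjClasses.exists_rep C).choose

theorem mk_out (C : ConjClasses G) : ConjClasses.mk (outC C) = C := (ConjClasses.exists_rep C).choose_spec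

attribute [irreducible] outC

theorem isConj_out {π : Finset ℕ} {C : ConjClasses G} (h : ∃ g, PiEl π g ∧ ConjClasses.mk g = C) :
    PiEl π (outC C) := by
  obtain ⟨g, hg, hgC⟩ := h
  refine hg.of_isConj (ConjClasses.mk_eq_mk_iff_isConj.1 (hgC.trans ?_))
  exact (mk_out C).symm

theorem piEl_pgroup [Finite G] {r : ℕ} [Fact r.Prime] {R : Subgroup G} (hR : IsPGroup r R) {v : G}
    (hv : v ∈ R) : PiEl {r} v := by
  intro q hq hd
  obtain ⟨k, hk⟩ := IsPGroup.iff_orderOf.1 hR ⟨v, hv⟩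
  rw [Subgroup.orderOf_mk] at hk
  rw [hk] at hd
  exact Finset.mem_singleton.2 ((Nat.prime_dvd_prime_iff_eq hq Fact.out).1 (hq.dvd_of_dvd_pow hd))

theorem PiEl.isPGroup [Finite G] {r : ℕ} [Fact r.Prime] {v : G} (hv : PiEl {r} v) :
    IsPGroup r (Subgroup.zpowers v) := by
  have h := Nat.eq_prime_pow_of_unique_prime_dvd (orderOf_pos v).ne'
    (fun {q} hq hd => Finset.mem_singleton.1 (hv q hq hd))
  exact Cfsg.Agent.Solv.isPGroup_zpowers h

theorem PiEl.split [Finite G] {σ τ : Finset ℕ} {z : G} (hz : PiEl (σ ∪ τ) z) :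
    ∃ v w : G, z = v * w ∧ Commute v w ∧ PiEl σ v ∧ PiEl τ w := by
  obtain ⟨a, b, hab, hco, ha, hb⟩ :=
    Cfsg.Agent.Solv.exists_pi_split (↑σ : Set ℕ) (orderOf z) (orderOf_pos z).ne'
  obtain ⟨u, v, hu, hv, huv, hua, hvb⟩ :=
    Cfsg.Agent.Solv.exists_split_of_coprime hco (hab ▸ pow_orderOf_eq_one z)
  refine ⟨u, v, huv.symm, ?_, fun q hq hd => ha q hq (hd.trans (orderOf_dvd_of_pow_eq_one hua)),
    fun q hq hd => ?_⟩
  · obtain ⟨i, rfl⟩ := hu
    obtain ⟨j, rfl⟩ := hv
    exact (Commute.refl z).zpow_zpow i j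
  · have h1 : q ∣ b := hd.trans (orderOf_dvd_of_pow_eq_one hvb)
    have h2 := hz q hq (hab ▸ h1.trans (dvd_mul_left b a))
    exact (Finset.mem_union.1 h2).resolve_left fun h => hb q hq h1 h

theorem kpi_congr (X : Type u) [Group X] [Finite X] {π : Finset ℕ} {r : ℕ}
    (hr : ¬ r ∣ Nat.card X) : kpi π X = kpi (π.erase r) X := by
  refine Nat.card_congr (Equiv.subtypeEquivRight fun C => exists_congr fun g => and_congr_left' ?_)
  refine ⟨fun h q hq hd => Finset.mem_erase.2 ⟨?_, h q hq hd⟩, fun h => h.mono (Finset.erase_subset r π)⟩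
  rintro rfl
  exact hr (hd.trans (orderOf_dvd_natCard g))

set_option maxHeartbeats 1000000 in
theorem kpi_le_sum [Finite G] {σ τ : Finset ℕ} {π : Finset ℕ} (hπ : π = σ ∪ τ) (M : ℕ)
    (hM : ∀ w : G, PiEl τ w → kpi σ (Subgroup.centralizer ({w} : Set G)) ≤ M) :
    kpi π G ≤ kpi τ G * M := by
  classical
  subst hπ
  haveI := Fintype.ofFinite {C : ConjClasses G // ∃ g : G, PiEl τ g ∧ ConjClasses.mk g = C}
  let T := Σ D : {C : ConjClasses G // ∃ g : G, PiEl τ g ∧ ConjClasses.mk g = C},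
    {C : ConjClasses (Subgroup.centralizer ({outC D.1} : Set G)) //
      ∃ g, PiEl σ g ∧ ConjClasses.mk g = C}
  let f : T → {C : ConjClasses G // ∃ g : G, PiEl (σ ∪ τ) g ∧ ConjClasses.mk g = C} := fun x =>
    ⟨ConjClasses.mk (((outC x.2.1 : Subgroup.centralizer _) : G) * outC x.1.1), _,
      PiEl.mul ((piEl_coe.2 (isConj_out x.2.2)).mono Finset.subset_union_left)
        ((isConj_out x.1.2).mono Finset.subset_union_right)
        (Subgroup.mem_centralizer_singleton_iff.1 (outC x.2.1).2), rfl⟩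
  have hf : Function.Surjective f := by
    rintro ⟨C, z, hz, rfl⟩
    obtain ⟨v, w, rfl, hvw, hv, hw⟩ := hz.split
    let D : {C : ConjClasses G // ∃ g : G, PiEl τ g ∧ ConjClasses.mk g = C} :=
      ⟨ConjClasses.mk w, w, hw, rfl⟩
    obtain ⟨c, hc⟩ := isConj_iff.1 (ConjClasses.mk_eq_mk_iff_isConj.1 (mk_out D.1).symm)
    have hv' : c * v * c⁻¹ ∈ Subgroup.centralizer ({outC D.1} : Set G) := by
      refine Subgroup.mem_centralizer_singleton_iff.2 ?_
      rw [← hc]
      calc c * v * c⁻¹ * (c * w * c⁻¹) = c * (v * w) * c⁻¹ := by group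
        _ = c * (w * v) * c⁻¹ := by rw [hvw.eq]
        _ = _ := by group
    let E : {C : ConjClasses (Subgroup.centralizer ({outC D.1} : Set G)) //
        ∃ g, PiEl σ g ∧ ConjClasses.mk g = C} :=
      ⟨ConjClasses.mk ⟨_, hv'⟩, _, piEl_coe.1 (hv.conj c), rfl⟩
    refine ⟨⟨D, E⟩, Subtype.ext ?_⟩
    obtain ⟨e, he⟩ := isConj_iff.1 (ConjClasses.mk_eq_mk_iff_isConj.1 (mk_out E.1).symm)
    have he' : (e : G) * (c * v * c⁻¹) * (e : G)⁻¹ = ((outC E.1 : Subgroup.centralizer _) : G) :=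
      congrArg (fun x : Subgroup.centralizer ({outC D.1} : Set G) => (x : G)) he
    refine ConjClasses.mk_eq_mk_iff_isConj.2 (IsConj.symm (isConj_iff.2 ⟨(e : G) * c, ?_⟩))
    have hew : (e : G) * outC D.1 * (e : G)⁻¹ = outC D.1 := by
      rw [Subgroup.mem_centralizer_singleton_iff.1 e.2, mul_inv_cancel_right]
    calc (e : G) * c * (v * w) * ((e : G) * c)⁻¹
        = (e : G) * (c * v * c⁻¹) * (e : G)⁻¹ * ((e : G) * (c * w * c⁻¹) * (e : G)⁻¹) := by group
      _ = _ := by rw [he', hc, hew]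
  have hM' : ∀ D : {C : ConjClasses G // ∃ g : G, PiEl τ g ∧ ConjClasses.mk g = C},
      Nat.card {C : ConjClasses (Subgroup.centralizer ({outC D.1} : Set G)) //
        ∃ g, PiEl σ g ∧ ConjClasses.mk g = C} ≤ M := fun D => by
    have h := hM _ (isConj_out D.2)
    unfold kpi at h
    exact h
  have h1 : Nat.card T ≤ Nat.card {C : ConjClasses G // ∃ g : G, PiEl τ g ∧ ConjClasses.mk g = C} * M := by
    simp only [T]
    rw [Nat.card_sigma]
    refine (Finset.sum_le_sum fun D _ => hM' D).trans (le_of_eq ?_)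
    rw [Finset.sum_const, Finset.card_univ, smul_eq_mul, ← Nat.card_eq_fintype_card]
  have h0 := Nat.card_le_card_of_surjective f hf
  unfold kpi
  exact h0.trans h1

theorem kpi_singleton_le [Finite G] {r : ℕ} [Fact r.Prime] (R : Sylow r G) :
    kpi {r} G ≤ Nat.card (ConjClasses (R : Subgroup G)) := by
  let f : ConjClasses (R : Subgroup G) → {C : ConjClasses G // ∃ g : G, PiEl {r} g ∧ ConjClasses.mk g = C} :=
    fun C => ⟨ConjClasses.mk ((outC C : (R : Subgroup G)) : G), _,
      piEl_pgroup R.2 (outC C).2, rfl⟩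
  refine Nat.card_le_card_of_surjective f ?_
  rintro ⟨C, g, hg, rfl⟩
  obtain ⟨k, -, hk⟩ := Cfsg.Agent.Perm.NilpotentHall.conj_into ⊤ R le_top _ hg.isPGroup le_top
  refine ⟨ConjClasses.mk ⟨_, hk g (Subgroup.mem_zpowers g)⟩, Subtype.ext ?_⟩
  obtain ⟨c, hc⟩ := isConj_iff.1 (ConjClasses.mk_eq_mk_iff_isConj.1
    (mk_out (ConjClasses.mk (⟨_, hk g (Subgroup.mem_zpowers g)⟩ : (R : Subgroup G)))).symm)
  refine ConjClasses.mk_eq_mk_iff_isConj.2 (IsConj.symm (isConj_iff.2 ⟨(c : G) * k, ?_⟩))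
  have := congrArg (fun x : (R : Subgroup G) => (x : G)) hc
  simp only [Subgroup.coe_mul, Subgroup.coe_inv] at this
  rw [← this]; group

theorem kpi_singleton_le_pow [Finite G] {r : ℕ} [Fact r.Prime] :
    kpi {r} G ≤ r ^ (Nat.card G).factorization r := by
  obtain ⟨R⟩ : Nonempty (Sylow r G) := inferInstance
  rw [← R.card_eq_multiplicity]
  exact (kpi_singleton_le R).trans (Nat.card_le_card_of_surjective _ ConjClasses.mk_surjective)

theorem kpi_empty (X : Type u) [Group X] [Finite X] : kpi ∅ X ≤ 1 := by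
  refine Finite.card_le_one_iff_subsingleton.2 ⟨fun a b => Subtype.ext ?_⟩
  have h : ∀ C : {C : ConjClasses X // ∃ g : X, PiEl ∅ g ∧ ConjClasses.mk g = C}, C.1 = ConjClasses.mk 1 := by
    rintro ⟨C, g, hg, rfl⟩
    rcases eq_or_ne (orderOf g) 1 with h | h
    · show ConjClasses.mk g = _
      rw [orderOf_eq_one_iff.1 h]
    · obtain ⟨q, hq, hqd⟩ := Nat.exists_prime_and_dvd h
      exact absurd (hg q hq hqd) (Finset.notMem_empty q)
  rw [h a, h b]

theorem piPart_insert {π : Finset ℕ} {r n : ℕ} (hr : r ∉ π) :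
    piPart (insert r π) n = r ^ n.factorization r * piPart π n := Finset.prod_insert hr

theorem piPart_singleton (r n : ℕ) : piPart {r} n = r ^ n.factorization r := Finset.prod_singleton _ _

theorem piPart_pos {π : Finset ℕ} (hπ : ∀ q ∈ π, q.Prime) (n : ℕ) : 0 < piPart π n :=
  Finset.prod_pos fun q hq => pow_pos (hπ q hq).pos _

theorem factorization_piPart {π : Finset ℕ} (hπ : ∀ q ∈ π, q.Prime) (n q : ℕ) :
    (piPart π n).factorization q = if q ∈ π then n.factorization q else 0 := by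
  rw [piPart, Nat.factorization_prod (fun i hi => (pow_pos (hπ i hi).pos _).ne'), Finsupp.finsetSum_apply,
    Finset.sum_congr rfl (g := fun i => if i = q then n.factorization i else 0) fun i hi => ?_,
    Finset.sum_ite_eq']
  rw [(hπ i hi).factorization_pow, Finsupp.single_apply]

theorem piPart_dvd_piPart {π : Finset ℕ} {d n : ℕ} (h : d ∣ n) (hn : n ≠ 0) :
    piPart π d ∣ piPart π n :=
  Finset.prod_dvd_prod_of_dvd _ _ fun q _ =>
    pow_dvd_pow q ((Nat.factorization_le_iff_dvd (ne_zero_of_dvd_ne_zero hn h) hn).2 h q)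

theorem piPart_dvd {π : Finset ℕ} (hπ : ∀ q ∈ π, q.Prime) {n : ℕ} (hn : n ≠ 0) : piPart π n ∣ n := by
  refine (Nat.factorization_le_iff_dvd (piPart_pos hπ n).ne' hn).1 fun q => ?_
  rw [factorization_piPart hπ]
  split_ifs
  exacts [le_rfl, Nat.zero_le _]

theorem prime_dvd_piPart {π : Finset ℕ} (hπ : ∀ q ∈ π, q.Prime) {n q : ℕ} (hq : q.Prime)
    (h : q ∣ piPart π n) : q ∈ π ∧ q ∣ n := by
  have h1 := hq.factorization_pos_of_dvd (piPart_pos hπ n).ne' h
  rw [factorization_piPart hπ] at h1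
  split_ifs at h1 with h2
  · exact ⟨h2, Nat.dvd_of_factorization_pos h1.ne'⟩
  · omega

theorem kpi_le_piPart {π : Finset ℕ} : (∀ q ∈ π, q.Prime) → ∀ (X : Type u) [Group X] [Finite X],
    kpi π X ≤ piPart π (Nat.card X) := by
  induction π using Finset.induction_on with
  | empty => exact fun _ X _ _ => (kpi_empty X).trans (le_of_eq rfl)
  | insert r σ hr ih =>
    intro hπ X _ _
    haveI : Fact r.Prime := ⟨hπ r (Finset.mem_insert_self r σ)⟩
    rw [piPart_insert hr, mul_comm]
    refine (kpi_le_sum (Finset.insert_eq r σ) (r ^ (Nat.card X).factorization r) fun w _ => ?_).trans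
      (Nat.mul_le_mul_right _ (ih (fun q hq => hπ q (Finset.mem_insert_of_mem hq)) X))
    refine kpi_singleton_le_pow.trans (Nat.pow_le_pow_right (hπ r (Finset.mem_insert_self r σ)).pos ?_)
    exact (Nat.factorization_le_iff_dvd Nat.card_pos.ne' Nat.card_pos.ne').2
      (Subgroup.card_subgroup_dvd_card _) r

/-- A proper divisor is at most a `p`-th part. -/
theorem mul_le_of_dvd_ne {p d n : ℕ} (hn : n ≠ 0) (hdn : d ∣ n) (hne : d ≠ n)
    (hp : ∀ q : ℕ, q.Prime → q ∣ n → p ≤ q) : p * d ≤ n := by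
  obtain ⟨c, rfl⟩ := hdn
  have hc : c ≠ 1 := fun h => hne (by rw [h, mul_one])
  obtain ⟨q, hq, hqc⟩ := Nat.exists_prime_and_dvd hc
  have hc0 : 0 < c := Nat.pos_of_ne_zero fun h => hn (by rw [h, mul_zero])
  have := (hp q hq (hqc.trans (dvd_mul_left c d))).trans (Nat.le_of_dvd hc0 hqc)
  rw [mul_comm p]
  exact Nat.mul_le_mul_left d this

/-- Fibres of size at least `s` off a fixed set. -/
theorem fibre_bound {α : Type u} {β : Type v} [Finite α] (f : α → β) (Fx : Set α) (s : ℕ) (hs : 1 ≤ s)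
    (h : ∀ a, a ∉ Fx → s ≤ Nat.card {a' : α // f a' = f a}) :
    s * Nat.card (Set.range f) ≤ Nat.card α + (s - 1) * Nat.card Fx := by
  classical
  haveI := Fintype.ofFinite α
  have hcard : ∀ b, Nat.card {a' : α // f a' = b} = (Finset.univ.filter fun a => f a = b).card := fun b => by
    rw [Nat.card_eq_fintype_card, Fintype.card_subtype]
  have hFx : Nat.card Fx = (Finset.univ.filter fun a => a ∈ Fx).card := by
    rw [Nat.card_eq_fintype_card, ← Fintype.card_subtype]
  have hrange : Nat.card (Set.range f) = (Finset.univ.image f).card := by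
    rw [Nat.card_eq_fintype_card, ← Set.toFinset_card, Set.toFinset_range]
  have h1 : Fintype.card α = ∑ b ∈ Finset.univ.image f, (Finset.univ.filter fun a => f a = b).card :=
    Finset.card_eq_sum_card_image f Finset.univ
  have h2 : (Finset.univ.filter fun a => a ∈ Fx).card =
      ∑ b ∈ Finset.univ.image f, ((Finset.univ.filter fun a => a ∈ Fx).filter fun a => f a = b).card :=
    Finset.card_eq_sum_card_fiberwise fun a _ => Finset.mem_image_of_mem f (Finset.mem_univ a)
  rw [hFx, hrange, Nat.card_eq_fintype_card, h1, h2, Finset.mul_sum, ← Finset.sum_add_distrib, mul_comm s,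
    ← smul_eq_mul, ← Finset.sum_const]
  refine Finset.sum_le_sum fun b hb => ?_
  obtain ⟨a, -, rfl⟩ := Finset.mem_image.1 hb
  by_cases he : ∃ a', a' ∈ Fx ∧ f a' = f a
  · obtain ⟨a', ha', hfa'⟩ := he
    have e1 : 1 ≤ (Finset.univ.filter fun x => f x = f a).card :=
      Finset.card_pos.2 ⟨a', by simp [hfa']⟩
    have e2 : 1 ≤ ((Finset.univ.filter fun x => x ∈ Fx).filter fun x => f x = f a).card :=
      Finset.card_pos.2 ⟨a', by simp [ha', hfa']⟩
    have := Nat.mul_le_mul_left (s - 1) e2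
    omega
  · have := h a fun ha => he ⟨a, ha, rfl⟩
    rw [hcard] at this
    omega

end Cfsg.Agent.Solv.PiCount
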