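import Cfsg.Agent.Lib.Solv.LayerClasses.Count
import Cfsg.Agent.Lib.Char.Central

/-!
Class number against the derived subgroup, when all prime divisors of the order are at least `p`.
-/

set_option autoImplicit false
set_option linter.unusedSectionVars false
set_option linter.style.haveILetI false

open scoped commutatorElement

namespace Cfsg.Agent.Solv.PiCount

universe u

variable {X : Type u} [Group X] [Finite X]

theorem classes_le_derived {p : ℕ} (hp : 1 ≤ p)
    (hX : ∀ q : ℕ, q.Prime → q ∣ Nat.card X → p ≤ q) :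
    p ^ 2 * Nat.card (ConjClasses X) ≤ Nat.card X + (p ^ 2 - 1) * (commutator X).index := by
  classical
  haveI := Fintype.ofFinite X
  have hsum : ∑ χ : IrrCharacter X, Cfsg.charDegree (χ : X → ℂ) ^ 2 = Nat.card X := by
    have h := Cfsg.Agent.Char.sum_sq_deg (G := X)
    simp only [Cfsg.Agent.Char.charDegree_spec] at h
    exact_mod_cast h
  have hlin : (Finset.univ.filter fun χ : IrrCharacter X => Cfsg.charDegree (χ : X → ℂ) = 1).card =
      (commutator X).index := by
    rw [← Cfsg.Agent.Char.card_linear, Nat.card_eq_fintype_card, Fintype.card_subtype]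
    refine congrArg Finset.card (Finset.filter_congr fun χ _ => ?_)
    rw [Cfsg.Agent.Char.charDegree_spec, Nat.cast_eq_one]
  have key : ∀ χ : IrrCharacter X, p ^ 2 ≤ Cfsg.charDegree (χ : X → ℂ) ^ 2 +
      (p ^ 2 - 1) * (if Cfsg.charDegree (χ : X → ℂ) = 1 then 1 else 0) := by
    intro χ
    have h1 := Cfsg.Agent.Char.charDegree_pos' χ
    split_ifs with h
    · rw [h]
      have : 1 ≤ p ^ 2 := Nat.one_le_pow _ _ hp
      omega
    · obtain ⟨q, hq, hqd⟩ := Nat.exists_prime_and_dvd h
      have hdvd : Cfsg.charDegree (χ : X → ℂ) ∣ Nat.card X :=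
        Cfsg.Agent.Char.deg_dvd_card χ.2
      have h2 : p ≤ Cfsg.charDegree (χ : X → ℂ) :=
        (hX q hq (hqd.trans hdvd)).trans (Nat.le_of_dvd (by omega) hqd)
      have := Nat.pow_le_pow_left h2 2
      omega
  have h := Finset.sum_le_sum (s := (Finset.univ : Finset (IrrCharacter X))) fun χ _ => key χ
  rw [Finset.sum_const, Finset.card_univ, smul_eq_mul, Finset.sum_add_distrib, hsum,
    ← Finset.mul_sum, ← Finset.card_filter, hlin, ← Nat.card_eq_fintype_card,
    Cfsg.Agent.Char.card_irr, mul_comm] at h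
  exact h

theorem classes_mul_derived {p : ℕ} (hp : 1 ≤ p)
    (hX : ∀ q : ℕ, q.Prime → q ∣ Nat.card X → p ≤ q) :
    p ^ 2 * Nat.card (ConjClasses X) * Nat.card (commutator X) ≤
      Nat.card X * (Nat.card (commutator X) + (p ^ 2 - 1)) := by
  have h := Nat.mul_le_mul_right (Nat.card (commutator X)) (classes_le_derived hp hX)
  calc p ^ 2 * Nat.card (ConjClasses X) * Nat.card (commutator X)
      ≤ (Nat.card X + (p ^ 2 - 1) * (commutator X).index) * Nat.card (commutator X) := h
    _ = _ := by rw [← (commutator X).card_mul_index]; ring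

/-- Many classes: the derived subgroup has order `1` or is small. -/
theorem card_commutator_le {p : ℕ} (hp : 2 ≤ p)
    (hX : ∀ q : ℕ, q.Prime → q ∣ Nat.card X → p ≤ q)
    (h : Nat.card X < p * Nat.card (ConjClasses X)) : Nat.card (commutator X) ≤ p := by
  set d := Nat.card (commutator X) with hd
  set k := Nat.card (ConjClasses X)
  set n := Nat.card X
  have h1 : p ^ 2 * k * d ≤ n * (d + (p ^ 2 - 1)) := classes_mul_derived (by omega) hX
  have hn : 0 < n := Nat.card_pos
  by_contra hlt
  push Not at hlt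
  have h2 : p * n + p ≤ p ^ 2 * k := by nlinarith
  have h3 : (p * n + p) * d ≤ n * (d + (p ^ 2 - 1)) := (Nat.mul_le_mul_right d h2).trans h1
  obtain ⟨e, he⟩ : ∃ e, p ^ 2 = e + 1 := ⟨p ^ 2 - 1, by have : 1 ≤ p ^ 2 := Nat.one_le_pow _ _ (by omega); omega⟩
  obtain ⟨f, rfl⟩ : ∃ f, p = f + 2 := ⟨p - 2, by omega⟩
  rw [he, Nat.add_sub_cancel] at h3
  nlinarith [Nat.mul_le_mul_left (n * (f + 1)) hlt]

/-- A non-abelian group has at most `(p² + p - 1) / p³` times its order many classes. -/
theorem cube_classes_le {p : ℕ} (hp : 2 ≤ p)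
    (hX : ∀ q : ℕ, q.Prime → q ∣ Nat.card X → p ≤ q) (hna : ¬ IsMulCommutative X) :
    p ^ 3 * Nat.card (ConjClasses X) ≤ Nat.card X * (p ^ 2 + p - 1) := by
  set d := Nat.card (commutator X) with hd
  set k := Nat.card (ConjClasses X)
  set n := Nat.card X
  have h1 : p ^ 2 * k * d ≤ n * (d + (p ^ 2 - 1)) := classes_mul_derived (by omega) hX
  have hd1 : d ≠ 1 := by
    intro e
    refine hna (isMulCommutative_iff.2 fun a b => ?_)
    have hb := Subgroup.eq_bot_of_card_eq _ (hd ▸ e)
    have : ⁅a, b⁆ ∈ commutator X := by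
      rw [commutator_def]
      exact Subgroup.commutator_mem_commutator (Subgroup.mem_top _) (Subgroup.mem_top _)
    rw [hb, Subgroup.mem_bot, commutatorElement_eq_one_iff_mul_comm] at this
    exact this
  obtain ⟨q, hq, hqd⟩ := Nat.exists_prime_and_dvd hd1
  have hdn : d ∣ n := Subgroup.card_subgroup_dvd_card _
  have hpd : p ≤ d := (hX q hq (hqd.trans hdn)).trans (Nat.le_of_dvd Nat.card_pos hqd)
  obtain ⟨e, he⟩ : ∃ e, p ^ 2 = e + 1 := ⟨p ^ 2 - 1, by have : 1 ≤ p ^ 2 := Nat.one_le_pow _ _ (by omega); omega⟩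
  rw [he, Nat.add_sub_cancel] at h1
  have h2 : p ^ 2 + p - 1 = e + p := by omega
  rw [h2]
  refine Nat.le_of_mul_le_mul_left (c := d) ?_ (by omega)
  calc d * (p ^ 3 * k) = p * ((e + 1) * k * d) := by rw [← he]; ring
    _ ≤ p * (n * (d + e)) := Nat.mul_le_mul_left _ h1
    _ ≤ d * (n * (e + p)) := by nlinarith [Nat.mul_le_mul_left (n * e) hpd]

/-- Twice the class number of a non-abelian `q`-group. -/
theorem two_p_classes_le {p : ℕ} (hp : 2 ≤ p)
    (hX : ∀ q : ℕ, q.Prime → q ∣ Nat.card X → p ≤ q) (hna : ¬ IsMulCommutative X) :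
    2 * p * Nat.card (ConjClasses X) ≤ (p + 1) * Nat.card X := by
  have h := cube_classes_le hp hX hna
  obtain ⟨f, rfl⟩ : ∃ f, p = f + 2 := ⟨p - 2, by omega⟩
  have h2 : (f + 2) ^ 2 + (f + 2) - 1 = f * f + 5 * f + 5 := by
    have : (f + 2) ^ 2 = f * f + 4 * f + 4 := by ring
    omega
  rw [h2] at h
  refine Nat.le_of_mul_le_mul_left (c := (f + 2) ^ 2) ?_ (by positivity)
  nlinarith [h, Nat.zero_le (Nat.card X * f), Nat.zero_le (Nat.card X * (f * f)),
    Nat.zero_le (Nat.card X * (f * f * f))]

theorem isNilpotent_of_many {p : ℕ} (hp : 2 ≤ p)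
    (hX : ∀ q : ℕ, q.Prime → q ∣ Nat.card X → p ≤ q)
    (h : Nat.card X < p * Nat.card (ConjClasses X)) : Group.IsNilpotent X := by
  classical
  set D := commutator X with hD
  have hle : Nat.card D ≤ p := card_commutator_le hp hX h
  have hcen : ∀ d ∈ D, ∀ x : X, x * d = d * x := by
    intro d hd x
    rcases eq_or_ne (Nat.card D) 1 with h1 | h1
    · have := Subgroup.eq_bot_of_card_eq _ h1
      rw [this, Subgroup.mem_bot] at hd
      rw [hd, mul_one, one_mul]
    obtain ⟨q, hq, hqd⟩ := Nat.exists_prime_and_dvd h1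
    have hqp : p ≤ q := hX q hq (hqd.trans (Subgroup.card_subgroup_dvd_card _))
    have hcard : Nat.card D = p := le_antisymm hle (hqp.trans (Nat.le_of_dvd Nat.card_pos hqd))
    have hpp : p.Prime := by
      have : q = p := le_antisymm ((Nat.le_of_dvd Nat.card_pos hqd).trans hle) hqp
      exact this ▸ hq
    haveI : Fact p.Prime := ⟨hpp⟩
    -- the orbit of `d` avoids `1`, so its size is less than `p`
    let O := MulAction.orbit (ConjAct X) d
    have hO1 : ∀ y ∈ O, y ∈ D := by
      rintro y ⟨g, rfl⟩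
      simp only [ConjAct.smul_def]
      exact (inferInstance : D.Normal).conj_mem d hd _
    rcases eq_or_ne d 1 with rfl | hd1
    · rw [mul_one, one_mul]
    have hlt : Nat.card O < p := by
      rw [← hcard]
      let f : O → D := fun y => ⟨y.1, hO1 y.1 y.2⟩
      have hf : Function.Injective f := fun a b e => Subtype.ext (congrArg (fun z : D => (z : X)) e)
      rw [← Nat.card_range_of_injective hf, Nat.card_coe_set_eq]
      refine Set.ncard_lt_card fun hu => ?_
      obtain ⟨⟨y, g, rfl⟩, e⟩ : (1 : D) ∈ Set.range f := hu ▸ Set.mem_univ _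
      have he1 : ConjAct.ofConjAct g * d * (ConjAct.ofConjAct g)⁻¹ = 1 := by
        have h' := congrArg (fun z : D => (z : X)) e
        simpa [f, ConjAct.smul_def] using h'
      exact hd1 (conj_eq_one_iff.1 he1)
    have hdvd : Nat.card O ∣ Nat.card X := by
      rw [show Nat.card X = Nat.card (ConjAct X) from rfl]
      rw [Nat.card_congr (MulAction.orbitEquivQuotientStabilizer (ConjAct X) d), ← Subgroup.index_eq_card]
      exact Subgroup.index_dvd_card _
    haveI : Nonempty O := ⟨⟨d, MulAction.mem_orbit_self d⟩⟩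
    have hone : Nat.card O = 1 := by
      by_contra hne
      obtain ⟨r, hr, hrd⟩ := Nat.exists_prime_and_dvd hne
      exact absurd ((hX r hr (hrd.trans hdvd)).trans (Nat.le_of_dvd Nat.card_pos hrd)) (by omega)
    obtain ⟨hsub, -⟩ := Nat.card_eq_one_iff_unique.1 hone
    have := congrArg Subtype.val (hsub.elim ⟨ConjAct.toConjAct x • d, MulAction.mem_orbit _ _⟩
      ⟨d, MulAction.mem_orbit_self d⟩)
    simp only [ConjAct.smul_def, ConjAct.ofConjAct_toConjAct] at this
    calc x * d = x * d * x⁻¹ * x := by group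
      _ = d * x := by rw [this]
  haveI : Group.IsNilpotent (X ⧸ Subgroup.center X) := by
    have hab : ∀ a b : X ⧸ Subgroup.center X, a * b = b * a := by
      intro a b
      induction a using QuotientGroup.induction_on with
      | H a =>
      induction b using QuotientGroup.induction_on with
      | H b =>
      rw [← QuotientGroup.mk_mul, ← QuotientGroup.mk_mul, QuotientGroup.eq]
      refine Subgroup.mem_center_iff.2 fun g => hcen _ ?_ g
      rw [show (a * b)⁻¹ * (b * a) = ⁅b⁻¹, a⁻¹⁆ by rw [commutatorElement_def]; group, hD, commutator_def]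
      exact Subgroup.commutator_mem_commutator (Subgroup.mem_top _) (Subgroup.mem_top _)
    letI : CommGroup (X ⧸ Subgroup.center X) := { (inferInstance : Group (X ⧸ Subgroup.center X)) with mul_comm := hab }
    infer_instance
  exact Group.of_quotient_center_nilpotent inferInstance

end Cfsg.Agent.Solv.PiCount
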