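import Mathlib.GroupTheory.Transfer
import Cfsg.Agent.Lib.Solv.PiClassCount.Basic
import Cfsg.Agent.Lib.Solv.PiClassCount.DerivedBound
import Cfsg.Agent.Lib.Solv.Coprime
import Cfsg.Agent.Lib.Perm.NilpotentHall

/-!
An abelian Sylow subgroup with a normal complement: a nilpotent Hall subgroup.
-/

set_option autoImplicit false
set_option linter.style.haveILetI false
set_option linter.unusedSectionVars false

open scoped Pointwise

namespace Cfsg.Agent.Solv.PiCount

open Cfsg.Agent.Perm.NilpotentHall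

universe u

variable {G : Type u} [Group G] [Finite G]

theorem not_dvd_index_of_card {π : Finset ℕ} (hπ : ∀ q ∈ π, q.Prime) {H : Subgroup G}
    (hH : Nat.card H = piPart π (Nat.card G)) {q : ℕ} (hq : q ∈ π) : ¬ q ∣ H.index := by
  intro hd
  have h := congrArg (fun n => n.factorization q) H.card_mul_index
  simp only [hH, Nat.factorization_mul (piPart_pos hπ _).ne' Subgroup.index_ne_zero_of_finite,
    Finsupp.add_apply, factorization_piPart hπ, if_pos hq] at h
  have := (hπ q hq).factorization_pos_of_dvd Subgroup.index_ne_zero_of_finite hd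
  omega

theorem card_sylow_eq {q : ℕ} [Fact q.Prime] (Q : Sylow q G) :
    Nat.card (Q : Subgroup G) = piPart {q} (Nat.card G) := by
  rw [piPart_singleton]; exact Q.card_eq_multiplicity

theorem piPart_coprime {π : Finset ℕ} (hπ : ∀ q ∈ π, q.Prime) {r : ℕ} (hr : r.Prime) (hrπ : r ∉ π)
    (n k : ℕ) : (piPart π n).Coprime (r ^ k) :=
  Nat.Coprime.pow_right k (((Nat.Prime.coprime_iff_not_dvd hr).2 fun h =>
    hrπ (prime_dvd_piPart hπ hr h).1).symm)

/-- A `π`-group with many classes is nilpotent, so it is enough to find a Hall subgroup meeting every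
class of `π`-elements. -/
theorem nilpotent_of_meets {π : Finset ℕ} {p : ℕ} (hp : 2 ≤ p) (hπ : ∀ q ∈ π, q.Prime)
    (hmin : ∀ q ∈ π, p ≤ q) {X : Subgroup G} (hX : Nat.card X = piPart π (Nat.card G))
    (hmeet : ∀ z, PiEl π z → ∃ x ∈ X, IsConj z x)
    (hmany : piPart π (Nat.card G) < p * kpi π G) : Group.IsNilpotent X := by
  refine isNilpotent_of_many hp (fun q hq hd => hmin q (prime_dvd_piPart hπ hq (hX ▸ hd)).1) ?_
  rw [hX]
  refine hmany.trans_le (Nat.mul_le_mul_left p ?_)
  refine Nat.card_le_card_of_surjective (fun C : ConjClasses X =>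
    (⟨ConjClasses.mk ((outC C : X) : G), _, fun q hq hd => ?_, rfl⟩ :
      {C : ConjClasses G // ∃ g : G, PiEl π g ∧ ConjClasses.mk g = C})) ?_
  · exact (prime_dvd_piPart hπ hq (hX ▸ hd.trans (Subgroup.orderOf_dvd_natCard X (outC C).2))).1
  · rintro ⟨C, z, hz, rfl⟩
    obtain ⟨x, hx, hzx⟩ := hmeet z hz
    refine ⟨ConjClasses.mk ⟨x, hx⟩, Subtype.ext ?_⟩
    refine ConjClasses.mk_eq_mk_iff_isConj.2 (IsConj.trans ?_ hzx.symm)
    exact X.subtype.map_isConj (ConjClasses.mk_eq_mk_iff_isConj.1 (mk_out (ConjClasses.mk (⟨x, hx⟩ : X))))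

/-- Burnside's case. -/
theorem hall_of_complement {q : ℕ} [hqf : Fact q.Prime] (Q : Sylow q G)
    (hN : Subgroup.normalizer ((Q : Subgroup G) : Set G) ≤ Subgroup.centralizer ((Q : Subgroup G) : Set G))
    {σ : Finset ℕ} (hσ : ∀ x ∈ σ, x.Prime) (hqσ : q ∉ σ) (L : Subgroup G) (hLn : Group.IsNilpotent L)
    (hL : Nat.card L = piPart σ (Nat.card G)) {p : ℕ} (hp : 2 ≤ p) (hmin : ∀ x ∈ insert q σ, p ≤ x)
    (hmany : piPart (insert q σ) (Nat.card G) < p * kpi (insert q σ) G) :
    ∃ H : Subgroup G, Nat.card H = piPart (insert q σ) (Nat.card G) ∧ Group.IsNilpotent H := by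
  classical
  set K := (MonoidHom.transferSylow Q hN).ker with hK
  have hKc : K.IsComplement' (Q : Subgroup G) := MonoidHom.ker_transferSylow_isComplement' Q hN
  haveI hKn : K.Normal := MonoidHom.normal_ker _
  have hKi : K.index = Nat.card (Q : Subgroup G) := hKc.symm.index_eq_card
  have hQc : Nat.card (Q : Subgroup G) = q ^ (Nat.card G).factorization q := Q.card_eq_multiplicity
  have hcoLQ : (Nat.card L).Coprime K.index := by
    rw [hL, hKi, hQc]; exact piPart_coprime hσ hqf.out hqσ _ _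
  have hinK : ∀ g : G, (orderOf g).Coprime K.index → g ∈ K := by
    intro g hg
    rw [← QuotientGroup.eq_one_iff, ← orderOf_eq_one_iff]
    refine Nat.eq_one_of_dvd_coprimes hg (orderOf_map_dvd (QuotientGroup.mk' K) g) ?_
    exact K.index_eq_card ▸ orderOf_dvd_natCard _
  have hLK : L ≤ K := fun x hx =>
    hinK x (hcoLQ.coprime_dvd_left (Subgroup.orderOf_dvd_natCard L hx))
  have hidx : ∀ x : ℕ, x.Prime → x ∣ Nat.card L → ¬ x ∣ L.index := fun x hx hd =>
    not_dvd_index_of_card hσ hL (prime_dvd_piPart hσ hx (hL ▸ hd)).1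
  -- Frattini
  have hfr : K ⊔ Subgroup.normalizer (L : Set G) = ⊤ := by
    refine top_le_iff.1 fun g _ => ?_
    set L' := L.map (MulAut.conj g).toMonoidHom with hL'
    haveI : Group.IsNilpotent L' :=
      haveI := hLn
      Group.nilpotent_of_surjective _ ((MulAut.conj g).toMonoidHom.subgroupMap_surjective L)
    have hL'c : Nat.card L' = Nat.card L := Subgroup.card_map_of_injective (MulAut.conj g).injective
    have hL'K : L' ≤ K := by rintro _ ⟨x, hx, rfl⟩; exact hKn.conj_mem x (hLK hx) g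
    obtain ⟨c, hc, hcL⟩ := nilpotent_conj (Nat.card L') L' K L rfl hL'K hLK hLn inferInstance
      fun x hx hd => hidx x hx (hL'c ▸ hd)
    have hcg : c * g ∈ Subgroup.normalizer (L : Set G) := by
      refine Cfsg.Agent.Solv.mem_normalizer_of_conj_smul (Subgroup.eq_of_le_of_card_ge ?_ ?_)
      · rintro _ ⟨x, hx, rfl⟩
        show c * g * x * (c * g)⁻¹ ∈ L
        rw [show c * g * x * (c * g)⁻¹ = c * (g * x * g⁻¹) * c⁻¹ by group]
        exact hcL _ ⟨x, hx, rfl⟩
      · rw [card_conj_smul]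
    have := mul_mem (Subgroup.mem_sup_left (inv_mem hc) : c⁻¹ ∈ K ⊔ Subgroup.normalizer (L : Set G))
      (Subgroup.mem_sup_right hcg)
    rwa [inv_mul_cancel_left] at this
  have hNi : ¬ q ∣ (Subgroup.normalizer (L : Set G)).index := by
    intro hd
    have h1 : (Subgroup.normalizer (L : Set G)).index ∣ Nat.card K := by
      have e := card_sup_mul_card_inf' K (Subgroup.normalizer (L : Set G))
        (le_top.trans (Subgroup.normalizer_eq_top (H := K)).ge)
      rw [hfr, Subgroup.card_top, ← (Subgroup.normalizer (L : Set G)).card_mul_index, mul_assoc,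
        mul_comm (Nat.card K)] at e
      exact Dvd.intro _ (Nat.eq_of_mul_eq_mul_left Nat.card_pos e)
    have h2 : ¬ q ∣ Nat.card K := by
      rw [← hKc.index_eq_card]; exact Q.not_dvd_index
    exact h2 (hd.trans h1)
  obtain ⟨Q1, hQ1⟩ := exists_sylow_le hNi
  set X := L ⊔ (Q1 : Subgroup G) with hX
  have hQ1c : Nat.card (Q1 : Subgroup G) = q ^ (Nat.card G).factorization q := Q1.card_eq_multiplicity
  have hco : (Nat.card (Q1 : Subgroup G)).Coprime (Nat.card L) := by
    rw [hL, hQ1c]; exact (piPart_coprime hσ hqf.out hqσ _ _).symm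
  have hXc : Nat.card X = piPart (insert q σ) (Nat.card G) := by
    have h := card_sup_mul_card_inf' L (Q1 : Subgroup G) hQ1
    rw [coprime_inf hco.symm, Subgroup.card_bot, mul_one, hL, hQ1c] at h
    rw [hX, h, piPart_insert hqσ, mul_comm]
  refine ⟨X, hXc, nilpotent_of_meets hp (fun x hx => ?_) hmin hXc (fun z hz => ?_) hmany⟩
  · rcases Finset.mem_insert.1 hx with rfl | h
    exacts [hqf.out, hσ x h]
  rw [Finset.insert_eq] at hz
  obtain ⟨v0, w0, rfl, hvw, hv, hw⟩ := hz.split
  obtain ⟨g, -, hg⟩ := conj_into ⊤ Q1 le_top _ hv.isPGroup le_top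
  set v := g * v0 * g⁻¹ with hvdef
  set w := g * w0 * g⁻¹ with hwdef
  have hvQ : v ∈ (Q1 : Subgroup G) := hg v0 (Subgroup.mem_zpowers v0)
  have hwσ : PiEl σ w := hw.conj g
  have hwv : w * v = v * w := by
    calc w * v = g * (w0 * v0) * g⁻¹ := by rw [hvdef, hwdef]; group
      _ = g * (v0 * w0) * g⁻¹ := by rw [hvw.eq]
      _ = v * w := by rw [hvdef, hwdef]; group
  set C := K ⊓ Subgroup.centralizer ({v} : Set G) with hC
  have hwC : w ∈ C := ⟨hinK w (Nat.coprime_of_dvd fun x hx h1 h2 => hqσ (by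
    rw [hKi, hQc] at h2
    exact (Nat.prime_dvd_prime_iff_eq hx hqf.out).1 (hx.dvd_of_dvd_pow h2) ▸ hwσ x hx h1)),
    Subgroup.mem_centralizer_singleton_iff.2 hwv⟩
  set A := Subgroup.zpowers v with hA
  have hAQ : A ≤ (Q1 : Subgroup G) := Subgroup.zpowers_le.2 hvQ
  have hAK : A ≤ Subgroup.normalizer (K : Set G) := by
    rw [Subgroup.normalizer_eq_top]; exact le_top
  have hAL : A ≤ Subgroup.normalizer (L : Set G) := hAQ.trans hQ1
  have hcoA : (Nat.card A).Coprime (Nat.card K) := by
    refine (Nat.Coprime.coprime_dvd_left (Subgroup.card_dvd_of_le hAQ) ?_)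
    rw [hQ1c, ← hKc.index_eq_card]
    exact Nat.Coprime.pow_left _ ((Nat.Prime.coprime_iff_not_dvd hqf.out).2 Q.not_dvd_index)
  have hHn : ∀ x : ℕ, x.Prime → x ∈ σ → ¬ x ∣ ((L ⊓ C).subgroupOf C).index := by
    intro x hx hxσ hd
    haveI : Fact x.Prime := ⟨hx⟩
    obtain ⟨U, hU⟩ := exists_isSylIn x C
    obtain ⟨S0⟩ : Nonempty (Sylow x L) := inferInstance
    haveI := hLn
    haveI : (S0 : Subgroup L).Normal := inferInstance
    set S := (S0 : Subgroup L).map L.subtype with hS
    have hScard : Nat.card S = x ^ (Nat.card G).factorization x := by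
      rw [hS, Subgroup.card_map_of_injective L.subtype_injective, S0.card_eq_multiplicity, hL,
        factorization_piPart hσ, if_pos hxσ]
    have hSK : IsSylIn x S K := by
      refine ⟨(Subgroup.map_subtype_le _).trans hLK, hScard.trans ?_⟩
      have := congrArg (fun n => n.factorization x) K.card_mul_index
      simp only [Nat.factorization_mul Nat.card_pos.ne' Subgroup.index_ne_zero_of_finite,
        Finsupp.add_apply] at this
      rw [← this, hKi, hQc, hqf.out.factorization_pow, Finsupp.single_apply, if_neg (fun e : q = x => hqσ (e ▸ hxσ)),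
        add_zero]
    have hSuniq : ∀ U : Subgroup G, U ≤ L → IsPGroup x U → U ≤ S := by
      intro U hUL hUp
      obtain ⟨P', hP'⟩ := (hUp.comap_subtype (K := L)).exists_le_sylow
      haveI := Sylow.unique_of_normal S0 inferInstance
      rw [Subsingleton.elim P' S0] at hP'
      rw [hS, ← Subgroup.map_subgroupOf_eq_of_le hUL]
      exact Subgroup.map_mono hP'
    have hSA : A ≤ Subgroup.normalizer (S : Set G) := fun a ha => by
      refine Cfsg.Agent.Solv.mem_normalizer_of_conj_smul (Subgroup.eq_of_le_of_card_ge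
        (hSuniq _ ?_ ?_) (by rw [card_conj_smul]))
      · exact (Subgroup.pointwise_smul_le_pointwise_smul_iff.2 (Subgroup.map_subtype_le _)).trans
          (conj_smul_of_mem_normalizer (hAL ha)).le
      · exact IsPGroup.of_card (n := (Nat.card G).factorization x) (by rw [card_conj_smul]; exact hScard)
    have hAsol : Group.IsSolvable A ∨ Group.IsSolvable K := Or.inl inferInstance
    have hUA : A ≤ Subgroup.normalizer (U : Set G) :=
      le_trans (fun a ha => Subgroup.mem_centralizer_iff.2 fun u hu => by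
        obtain ⟨i, rfl⟩ := ha
        exact ((show Commute u v from Subgroup.mem_centralizer_singleton_iff.1 (hU.1 hu).2).zpow_right i).eq)
        (Subgroup.centralizer_le_normalizer _)
    obtain ⟨P, hP, hUP, hPA⟩ := exists_invariant_sylow_ge hAK hcoA hAsol U
      (hU.1.trans inf_le_left) hU.isPGroup hUA
    obtain ⟨c, ⟨hcK, hcA⟩, hcP⟩ := invariant_sylow_conj hAK hcoA hAsol hP hSK hPA hSA
    have hcC : c ∈ Subgroup.normalizer (C : Set G) := Subgroup.le_normalizer ⟨hcK,
      Subgroup.mem_centralizer_singleton_iff.2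
        (Subgroup.mem_centralizer_iff.1 hcA v (Subgroup.mem_zpowers v)).symm⟩
    have hU' : MulAut.conj c • U ≤ L ⊓ C := le_inf
      ((Subgroup.pointwise_smul_le_pointwise_smul_iff.2 hUP).trans (hcP.le.trans (Subgroup.map_subtype_le _)))
      (hU.conj hcC).1
    obtain ⟨U', hU''⟩ := (hU.conj hcC).exists_sylow
    refine U'.not_dvd_index (hd.trans (Subgroup.index_dvd_of_le ?_))
    intro y hy
    exact Subgroup.mem_subgroupOf.2 (hU' (hU'' ▸ ⟨y, hy, rfl⟩))
  haveI : Group.IsNilpotent ((L ⊓ C).subgroupOf C) := by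
    haveI := hLn
    haveI : Group.IsNilpotent (L ⊓ C : Subgroup G) :=
      Group.nilpotent_of_mulEquiv (Subgroup.subgroupOfEquivOfLe (inf_le_left : L ⊓ C ≤ L))
    exact Group.nilpotent_of_mulEquiv (Subgroup.subgroupOfEquivOfLe (inf_le_right : L ⊓ C ≤ C)).symm
  haveI : Group.IsNilpotent (Subgroup.zpowers (⟨w, hwC⟩ : C)) := by
    letI : CommGroup (Subgroup.zpowers (⟨w, hwC⟩ : C)) :=
      { (inferInstance : Group (Subgroup.zpowers (⟨w, hwC⟩ : C))) with
        mul_comm := fun a b => Subtype.ext (setLike_mul_comm a.2 b.2) }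
    infer_instance
  obtain ⟨c, -, hc⟩ := nilpotent_conj (G := C) _ (Subgroup.zpowers (⟨w, hwC⟩ : C)) ⊤
    ((L ⊓ C).subgroupOf C) rfl le_top le_top inferInstance inferInstance
    (fun x hx hd => hHn x hx (by
      rw [Nat.card_zpowers, Subgroup.orderOf_mk] at hd
      exact hwσ x hx hd))
  have hcv : (c : G) * v * (c : G)⁻¹ = v := by
    rw [Subgroup.mem_centralizer_singleton_iff.1 (Subgroup.mem_inf.1 c.2).2, mul_inv_cancel_right]
  have hcw : (c : G) * w * (c : G)⁻¹ ∈ L := (Subgroup.mem_inf.1 (Subgroup.mem_subgroupOf.1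
    (hc _ (Subgroup.mem_zpowers _)))).1
  refine ⟨v * ((c : G) * w * (c : G)⁻¹), mul_mem (Subgroup.mem_sup_right hvQ) (Subgroup.mem_sup_left hcw),
    isConj_iff.2 ⟨(c : G) * g, ?_⟩⟩
  calc (c : G) * g * (v0 * w0) * ((c : G) * g)⁻¹
      = ((c : G) * v * (c : G)⁻¹) * ((c : G) * w * (c : G)⁻¹) := by rw [hvdef, hwdef]; group
    _ = _ := by rw [hcv]

end Cfsg.Agent.Solv.PiCount
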