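import Cfsg.Agent.Lib.Solv.PiClassCount.Image
import Cfsg.Agent.Lib.Solv.PiClassCount.Complement

/-!
Numerical bounds for the classes of `π`-elements.
-/

set_option autoImplicit false
set_option linter.style.haveILetI false
set_option linter.unusedSectionVars false

namespace Cfsg.Agent.Solv.PiCount

open Cfsg.Agent.Perm.NilpotentHall

universe u

variable {G : Type u} [Group G] [Finite G]

/-- The part of `R` fixed by its normaliser. -/
def fixedPart (R : Subgroup G) : Subgroup G :=
  R ⊓ Subgroup.centralizer (Subgroup.normalizer (R : Set G) : Set G)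

theorem fixedPart_le (R : Subgroup G) : fixedPart R ≤ R := inf_le_left

theorem exists_move {R : Subgroup G} {v : G} (hv : v ∈ R) (hvF : v ∉ fixedPart R) :
    ∃ t ∈ Subgroup.normalizer (R : Set G), t * v * t⁻¹ ≠ v := by
  by_contra hcon
  push Not at hcon
  refine hvF ⟨hv, Subgroup.mem_centralizer_iff.2 fun t ht => ?_⟩
  have h := hcon t ht
  calc t * v = t * v * t⁻¹ * t := by group
    _ = v * t := by rw [h]

theorem two_le_moved {R : Subgroup G} {v : G} (hv : v ∈ R) (hvF : v ∉ fixedPart R) :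
    2 ≤ Nat.card {v' : G // ∃ t ∈ Subgroup.normalizer (R : Set G), t * v * t⁻¹ = v'} := by
  obtain ⟨t, ht, hne⟩ := exists_move hv hvF
  refine Nat.succ_le_of_lt ?_
  rw [Finite.one_lt_card_iff_nontrivial]
  exact ⟨⟨⟨v, 1, one_mem _, by group⟩, ⟨t * v * t⁻¹, t, ht, rfl⟩, fun e => hne (congrArg Subtype.val e).symm⟩⟩

theorem card_img_two (R : Subgroup G) (τ : Finset ℕ) :
    2 * Nat.card (Img R τ) ≤
      kpi τ (Subgroup.centralizer (R : Set G)) * (Nat.card R + Nat.card (fixedPart R)) := by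
  have := card_img_le R (fixedPart R) τ (fixedPart_le R) 2 (by norm_num) fun v hv hvF => two_le_moved hv hvF
  simpa using this

theorem fixedPart_mul_le {r : ℕ} [Fact r.Prime] (R : Sylow r G)
    (hN : ¬ Subgroup.normalizer ((R : Subgroup G) : Set G) ≤ Subgroup.centralizer ((R : Subgroup G) : Set G)) :
    r * Nat.card (fixedPart (R : Subgroup G)) ≤ Nat.card R := by
  refine mul_le_of_dvd_ne Nat.card_pos.ne' (Subgroup.card_dvd_of_le (fixedPart_le _)) (fun e => hN ?_) ?_
  · intro t ht
    refine Subgroup.mem_centralizer_iff.2 fun x hx => ?_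
    have hx' := (Subgroup.eq_of_le_of_card_ge (fixedPart_le (R : Subgroup G)) e.ge).ge hx
    exact (Subgroup.mem_centralizer_iff.1 hx'.2 t ht).symm
  · intro q hq hd
    obtain ⟨k, hk⟩ := IsPGroup.iff_card.1 R.2
    rw [hk] at hd
    exact ((Nat.prime_dvd_prime_iff_eq hq Fact.out).1 (hq.dvd_of_dvd_pow hd)).ge

theorem kpi_singleton_le_img {r : ℕ} [Fact r.Prime] (R : Sylow r G) :
    kpi {r} G ≤ Nat.card (Img (R : Subgroup G) ∅) := by
  unfold kpi
  refine Nat.card_mono (Set.toFinite _) ?_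
  rintro C ⟨g, hg, rfl⟩
  obtain ⟨k, -, hk⟩ := conj_into ⊤ R le_top _ hg.isPGroup le_top
  refine ⟨_, hk g (Subgroup.mem_zpowers g), 1, one_mem _, piEl_one _, ?_⟩
  rw [mul_one]
  exact ConjClasses.mk_eq_mk_iff_isConj.2 (IsConj.symm (isConj_iff.2 ⟨k, rfl⟩))

theorem two_kpi_singleton_le {r : ℕ} [Fact r.Prime] (R : Sylow r G) :
    2 * kpi {r} G ≤ Nat.card R + Nat.card (fixedPart (R : Subgroup G)) := by
  refine (Nat.mul_le_mul_left 2 (kpi_singleton_le_img R)).trans ((card_img_two _ _).trans ?_)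
  calc kpi ∅ (Subgroup.centralizer ((R : Subgroup G) : Set G)) *
        (Nat.card R + Nat.card (fixedPart (R : Subgroup G)))
      ≤ 1 * (Nat.card R + Nat.card (fixedPart (R : Subgroup G))) := Nat.mul_le_mul_right _ (kpi_empty _)
    _ = _ := one_mul _

theorem comm_of_mem {H : Subgroup G} (hab : IsMulCommutative H) {x y : G} (hx : x ∈ H) (hy : y ∈ H) :
    x * y = y * x :=
  congrArg Subtype.val (isMulCommutative_iff.1 hab ⟨x, hx⟩ ⟨y, hy⟩)

theorem pPrimes_of_sylow {r p : ℕ} [Fact r.Prime] (hp : p ≤ r) (R : Sylow r G) :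
    ∀ q : ℕ, q.Prime → q ∣ Nat.card R → p ≤ q := fun q hq hd => by
  obtain ⟨k, hk⟩ := IsPGroup.iff_card.1 R.2
  rw [hk] at hd
  rw [(Nat.prime_dvd_prime_iff_eq hq Fact.out).1 (hq.dvd_of_dvd_pow hd)]
  exact hp

/-- Either the Sylow subgroup is abelian with normaliser equal to centraliser, or it has few classes. -/
theorem few_classes {q p : ℕ} [Fact q.Prime] (hp : 2 ≤ p) (hpq : p ≤ q) (Q : Sylow q G)
    (h : ¬ (IsMulCommutative (Q : Subgroup G) ∧
      Subgroup.normalizer ((Q : Subgroup G) : Set G) ≤ Subgroup.centralizer ((Q : Subgroup G) : Set G))) :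
    2 * p * kpi {q} G ≤ (p + 1) * Nat.card Q := by
  by_cases hab : IsMulCommutative (Q : Subgroup G)
  · have hN : ¬ Subgroup.normalizer ((Q : Subgroup G) : Set G) ≤ Subgroup.centralizer ((Q : Subgroup G) : Set G) :=
      fun hN => h ⟨hab, hN⟩
    have h1 := fixedPart_mul_le Q hN
    have h2 := two_kpi_singleton_le Q
    have h3 := Nat.mul_le_mul_right (Nat.card (fixedPart (Q : Subgroup G))) hpq
    have h4 := Nat.mul_le_mul_left p h2
    nlinarith
  · exact (Nat.mul_le_mul_left _ (kpi_singleton_le Q)).trans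
      (two_p_classes_le hp (pPrimes_of_sylow hpq Q) hab)

/-- In an abelian Sylow `2`-subgroup a moved element has at least three images under the normaliser. -/
theorem three_le_moved (P : Sylow 2 G) (hab : IsMulCommutative (P : Subgroup G)) {v : G}
    (hv : v ∈ (P : Subgroup G)) (hvF : v ∉ fixedPart (P : Subgroup G)) :
    3 ≤ Nat.card {v' : G // ∃ t ∈ Subgroup.normalizer ((P : Subgroup G) : Set G), t * v * t⁻¹ = v'} := by
  classical
  set N := Subgroup.normalizer ((P : Subgroup G) : Set G) with hN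
  set S := (Subgroup.centralizer ({v} : Set G)).subgroupOf N with hS
  have hle : S.index ≤ Nat.card {v' : G // ∃ t ∈ N, t * v * t⁻¹ = v'} := by
    rw [Subgroup.index_eq_card]
    refine Nat.card_le_card_of_injective (Quotient.lift
      (fun t : N => (⟨(t : G) * v * (t : G)⁻¹, t, t.2, rfl⟩ : {v' : G // ∃ t ∈ N, t * v * t⁻¹ = v'})) ?_) ?_
    · intro a b hab'
      have hm : ((a⁻¹ * b : N) : G) ∈ Subgroup.centralizer ({v} : Set G) :=
        Subgroup.mem_subgroupOf.1 (QuotientGroup.leftRel_apply.1 hab')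
      have e := Subgroup.mem_centralizer_singleton_iff.1 hm
      refine Subtype.ext ?_
      simp only [Subgroup.coe_mul, Subgroup.coe_inv] at e
      calc (a : G) * v * (a : G)⁻¹ = (a : G) * (v * ((a : G)⁻¹ * b)) * (b : G)⁻¹ := by group
        _ = (a : G) * ((a : G)⁻¹ * b * v) * (b : G)⁻¹ := by rw [e]
        _ = (b : G) * v * (b : G)⁻¹ := by group
    · intro a b
      induction a using QuotientGroup.induction_on with
      | H a =>
      induction b using QuotientGroup.induction_on with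
      | H b =>
      intro e
      have e' : (a : G) * v * (a : G)⁻¹ = (b : G) * v * (b : G)⁻¹ := congrArg Subtype.val e
      refine QuotientGroup.eq.2 (Subgroup.mem_subgroupOf.2 (Subgroup.mem_centralizer_singleton_iff.2 ?_))
      simp only [Subgroup.coe_mul, Subgroup.coe_inv]
      calc (a : G)⁻¹ * b * v = (a : G)⁻¹ * ((b : G) * v * (b : G)⁻¹) * b := by group
        _ = (a : G)⁻¹ * ((a : G) * v * (a : G)⁻¹) * b := by rw [e']
        _ = _ := by group
  refine le_trans ?_ hle
  have hne1 : S.index ≠ 1 := by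
    intro h1
    obtain ⟨t, ht, hne⟩ := exists_move hv hvF
    have : (⟨t, ht⟩ : N) ∈ S := (Subgroup.index_eq_one.1 h1) ▸ Subgroup.mem_top _
    have e : t * v = v * t := Subgroup.mem_centralizer_singleton_iff.1 (Subgroup.mem_subgroupOf.1 this)
    exact hne (by rw [e, mul_inv_cancel_right])
  have hPS : (P.subtype Subgroup.le_normalizer : Subgroup N) ≤ S := fun x hx => by
    refine Subgroup.mem_subgroupOf.2 (Subgroup.mem_centralizer_singleton_iff.2 ?_)
    exact comm_of_mem hab (Subgroup.mem_subgroupOf.1 hx) hv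
  have hodd : ¬ 2 ∣ S.index := fun hd =>
    (P.subtype Subgroup.le_normalizer : Sylow 2 N).not_dvd_index (hd.trans (Subgroup.index_dvd_of_le hPS))
  have : S.index ≠ 0 := Subgroup.index_ne_zero_of_finite
  omega

theorem fixedPart_four_le (P : Sylow 2 G) (hab : IsMulCommutative (P : Subgroup G))
    (hN : ¬ Subgroup.normalizer ((P : Subgroup G) : Set G) ≤ Subgroup.centralizer ((P : Subgroup G) : Set G)) :
    4 * Nat.card (fixedPart (P : Subgroup G)) ≤ Nat.card P := by
  classical
  set F := fixedPart (P : Subgroup G) with hF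
  set S := F.subgroupOf (P : Subgroup G) with hS
  have hcard : Nat.card F * S.index = Nat.card P := by
    rw [← Nat.card_congr (Subgroup.subgroupOfEquivOfLe (fixedPart_le (P : Subgroup G))).toEquiv]
    exact S.card_mul_index
  obtain ⟨k, hk⟩ := IsPGroup.iff_card.1 P.2
  obtain ⟨j, hj, hji⟩ := (Nat.dvd_prime_pow Nat.prime_two).1 (hk ▸ hcard ▸ dvd_mul_left S.index (Nat.card F))
  suffices 2 ≤ j by
    rw [← hcard, mul_comm 4, hji]
    exact Nat.mul_le_mul_left _ ((by norm_num : 4 = 2 ^ 2).le.trans (Nat.pow_le_pow_right (by norm_num) this))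
  by_contra hlt
  have h2 := fixedPart_mul_le P hN
  have hj1 : j = 1 := by
    rcases (by omega : j = 0 ∨ j = 1) with rfl | h
    · rw [pow_zero] at hji
      rw [hji, mul_one] at hcard
      rw [← hcard, ← hF] at h2
      have : 0 < Nat.card F := Nat.card_pos
      omega
    · exact h
  rw [hj1, pow_one] at hji
  -- a moved element of index two
  refine hN fun t ht => Subgroup.mem_centralizer_iff.2 fun x hx => ?_
  by_cases hxF : x ∈ F
  · exact (Subgroup.mem_centralizer_iff.1 hxF.2 t ht).symm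
  have hxt : ∀ g ∈ Subgroup.normalizer ((P : Subgroup G) : Set G), x⁻¹ * (g * x * g⁻¹) ∈ F := by
    intro g hg
    have hgx : g * x * g⁻¹ ∈ (P : Subgroup G) := (Subgroup.mem_normalizer_iff.1 hg x).1 hx
    have hgF : g * x * g⁻¹ ∉ F := fun hc => by
      refine hxF ?_
      have hg' := Subgroup.mem_centralizer_iff.1 hc.2 g hg
      have : x = g * x * g⁻¹ := by
        calc x = g⁻¹ * (g * x * g⁻¹ * g) := by group
          _ = g⁻¹ * (g * (g * x * g⁻¹)) := by rw [hg']
          _ = _ := by group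
      rwa [← this] at hc
    have e := Subgroup.mul_mem_iff_of_index_two hji (a := (⟨x⁻¹, inv_mem hx⟩ : (P : Subgroup G)))
      (b := ⟨g * x * g⁻¹, hgx⟩)
    simp only [hS, Subgroup.mem_subgroupOf, Subgroup.coe_mul] at e
    exact e.2 ⟨fun h => absurd (by simpa using inv_mem h) hxF, fun h => absurd h hgF⟩
  set f0 := x⁻¹ * (t * x * t⁻¹) with hf0
  have hf0F := hxt t ht
  have hpow : ∀ i : ℕ, t ^ i * x * (t ^ i)⁻¹ = x * f0 ^ i := by
    intro i
    induction i with
    | zero => simp
    | succ i ih =>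
      have hti : Commute f0 (t ^ i) :=
        ((show Commute f0 t from (Subgroup.mem_centralizer_iff.1 hf0F.2 t ht).symm).pow_right i)
      calc t ^ (i + 1) * x * (t ^ (i + 1))⁻¹ = t ^ i * (t * x * t⁻¹) * (t ^ i)⁻¹ := by group
        _ = t ^ i * (x * f0) * (t ^ i)⁻¹ := by rw [hf0]; group
        _ = t ^ i * x * (t ^ i)⁻¹ * (t ^ i * f0 * (t ^ i)⁻¹) := by group
        _ = x * f0 ^ i * f0 := by rw [ih, hti.symm.eq, mul_inv_cancel_right]
        _ = _ := by rw [pow_succ, mul_assoc]
  set N := Subgroup.normalizer ((P : Subgroup G) : Set G)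
  set m := ((P : Subgroup G).subgroupOf N).index with hm
  haveI : ((P : Subgroup G).subgroupOf N).Normal := Subgroup.normal_in_normalizer
  have htm : t ^ m ∈ (P : Subgroup G) := by
    have := Subgroup.pow_index_mem ((P : Subgroup G).subgroupOf N) ⟨t, ht⟩
    simpa [Subgroup.mem_subgroupOf] using this
  have hmodd : ¬ 2 ∣ m := fun hd => (P.subtype Subgroup.le_normalizer : Sylow 2 N).not_dvd_index hd
  have h1 : x * f0 ^ m = x := by
    rw [← hpow, comm_of_mem hab htm hx, mul_inv_cancel_right]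
  have h2' : f0 ^ m = 1 := mul_left_cancel (h1.trans (mul_one x).symm)
  obtain ⟨i, hi⟩ := IsPGroup.iff_orderOf.1 P.2 ⟨f0, fixedPart_le _ hf0F⟩
  rw [Subgroup.orderOf_mk] at hi
  have hi0 : i = 0 := by
    by_contra h0
    exact hmodd ((dvd_pow_self 2 h0).trans (hi ▸ orderOf_dvd_of_pow_eq_one h2'))
  rw [hi0, pow_zero, orderOf_eq_one_iff] at hi
  have : t * x * t⁻¹ = x := by
    calc t * x * t⁻¹ = x * f0 := by rw [hf0]; group
      _ = x := by rw [hi, mul_one]
  calc x * t = t * x * t⁻¹ * t := by rw [this]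
    _ = t * x := by group

/-- Classes outside a subgroup of index two without central elements outside. -/
theorem outside_classes_le {P : Type u} [Group P] [Finite P] (W : Subgroup P) (hW : W.index = 2)
    (hc : ∀ x : P, x ∉ W → x ∉ Subgroup.center P) :
    2 * Nat.card {C : ConjClasses P // ∀ x, ConjClasses.mk x = C → x ∉ W} ≤ Nat.card W := by
  classical
  have hn : W.Normal := Subgroup.normal_of_index_eq_two hW
  let f : {x : P // x ∉ W} → ConjClasses P := fun x => ConjClasses.mk x.1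
  have hfib : ∀ a, a ∉ (∅ : Set {x : P // x ∉ W}) → 2 ≤ Nat.card {a' : {x : P // x ∉ W} // f a' = f a} := by
    rintro ⟨a, ha⟩ -
    obtain ⟨g, hg⟩ : ∃ g : P, g * a ≠ a * g := by
      by_contra hcon
      push Not at hcon
      exact hc a ha (Subgroup.mem_center_iff.2 hcon)
    have ha' : g * a * g⁻¹ ∉ W := fun h => ha (by
      have := hn.conj_mem _ h g⁻¹
      rwa [show g⁻¹ * (g * a * g⁻¹) * g⁻¹⁻¹ = a by group] at this)
    refine Nat.succ_le_of_lt ?_
    rw [Finite.one_lt_card_iff_nontrivial]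
    refine ⟨⟨⟨⟨a, ha⟩, rfl⟩, ⟨⟨_, ha'⟩, ?_⟩, fun e => hg ?_⟩⟩
    · exact ConjClasses.mk_eq_mk_iff_isConj.2 (IsConj.symm (isConj_iff.2 ⟨g, rfl⟩))
    · have e1 : a = g * a * g⁻¹ := congrArg (fun z : {a' : {x : P // x ∉ W} // f a' = f ⟨a, ha⟩} => z.1.1) e
      calc g * a = g * a * g⁻¹ * g := by group
        _ = a * g := by rw [← e1]
  have h1 := fibre_bound f ∅ 2 (by norm_num) hfib
  have e0 : Nat.card (∅ : Set {x : P // x ∉ W}) = 0 := by simp
  rw [e0, mul_zero, add_zero] at h1
  have h2 : Nat.card {x : P // x ∉ W} = Nat.card W := by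
    have e : Nat.card W + Nat.card {x : P // x ∉ W} = Nat.card P := by
      rw [← Nat.card_sum]
      exact Nat.card_congr (Equiv.sumCompl fun x : P => x ∈ W)
    have := W.card_mul_index
    rw [hW] at this
    omega
  rw [h2] at h1
  refine le_trans (Nat.mul_le_mul_left 2 (Nat.card_mono (Set.toFinite (Set.range f)) ?_)) h1
  intro C hC
  obtain ⟨x, rfl⟩ := ConjClasses.exists_rep C
  exact ⟨⟨x, hC x rfl⟩, rfl⟩

end Cfsg.Agent.Solv.PiCount
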