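import Cfsg.Agent.Lib.Solv.PiClassCount.Basic

/-!
Classes meeting `R × C(R)` and the remaining ones.
-/

set_option autoImplicit false
set_option linter.style.haveILetI false
set_option linter.unusedSectionVars false

namespace Cfsg.Agent.Solv.PiCount

open Cfsg.Agent.Perm.NilpotentHall

universe u

variable {G : Type u} [Group G] [Finite G]

/-- Classes of products `v * y` with `v ∈ R` and `y` a `τ`-element centralising `R`. -/
def Img (R : Subgroup G) (τ : Finset ℕ) : Set (ConjClasses G) :=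
  {C | ∃ v ∈ R, ∃ y ∈ Subgroup.centralizer (R : Set G), PiEl τ y ∧ ConjClasses.mk (v * y) = C}

/-- Classes of `τ`-elements not meeting `C(R)`. -/
def Off (R : Subgroup G) (τ : Finset ℕ) : Set (ConjClasses G) :=
  {D | (∃ w, PiEl τ w ∧ ConjClasses.mk w = D) ∧
    ¬ ∃ y ∈ Subgroup.centralizer (R : Set G), ConjClasses.mk y = D}

theorem card_off_le (R : Subgroup G) (τ : Finset ℕ) : Nat.card (Off R τ) ≤ kpi τ G := by
  unfold kpi
  exact Nat.card_le_card_of_injective
    (fun D : Off R τ => (⟨D.1, D.2.1⟩ : {C : ConjClasses G // ∃ g, PiEl τ g ∧ ConjClasses.mk g = C}))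
    fun a b e => Subtype.ext (congrArg (fun z : {C : ConjClasses G // ∃ g, PiEl τ g ∧ ConjClasses.mk g = C} => z.1) e)

theorem conj_mem_centralizer {R : Subgroup G} {t y : G} (ht : t ∈ Subgroup.normalizer (R : Set G))
    (hy : y ∈ Subgroup.centralizer (R : Set G)) : t * y * t⁻¹ ∈ Subgroup.centralizer (R : Set G) := by
  refine Subgroup.mem_centralizer_iff.2 fun x hx => ?_
  have hx' : t⁻¹ * x * (t⁻¹)⁻¹ ∈ R :=
    (Subgroup.mem_normalizer_iff.1 (inv_mem ht) x).1 hx
  have e := Subgroup.mem_centralizer_iff.1 hy _ hx'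
  calc x * (t * y * t⁻¹) = t * (t⁻¹ * x * (t⁻¹)⁻¹ * y) * t⁻¹ := by group
    _ = t * (y * (t⁻¹ * x * (t⁻¹)⁻¹)) * t⁻¹ := by rw [e]
    _ = t * y * t⁻¹ * x := by group

theorem card_img_le (R F : Subgroup G) (τ : Finset ℕ) (hFR : F ≤ R) (s : ℕ) (hs : 1 ≤ s)
    (hmove : ∀ v ∈ R, v ∉ F →
      s ≤ Nat.card {v' : G // ∃ t ∈ Subgroup.normalizer (R : Set G), t * v * t⁻¹ = v'}) :
    s * Nat.card (Img R τ) ≤
      kpi τ (Subgroup.centralizer (R : Set G)) * (Nat.card R + (s - 1) * Nat.card F) := by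
  classical
  let Y := {C : ConjClasses (Subgroup.centralizer (R : Set G)) // ∃ g, PiEl τ g ∧ ConjClasses.mk g = C}
  let f : R × Y → ConjClasses G := fun a =>
    ConjClasses.mk ((a.1 : G) * ((outC a.2.1 : Subgroup.centralizer (R : Set G)) : G))
  -- the value of `f` on a pair given by any representative
  have hval : ∀ (v : R) (y : Subgroup.centralizer (R : Set G)) (h : PiEl τ y),
      f (v, ⟨ConjClasses.mk y, y, h, rfl⟩) = ConjClasses.mk ((v : G) * (y : G)) := by
    intro v y h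
    obtain ⟨c, hc⟩ := isConj_iff.1 (ConjClasses.mk_eq_mk_iff_isConj.1 (mk_out (ConjClasses.mk y)).symm)
    refine ConjClasses.mk_eq_mk_iff_isConj.2 (IsConj.symm (isConj_iff.2 ⟨(c : G), ?_⟩))
    have hc' : (c : G) * (y : G) * (c : G)⁻¹ =
        ((outC (ConjClasses.mk y) : Subgroup.centralizer (R : Set G)) : G) :=
      congrArg (fun x : Subgroup.centralizer (R : Set G) => (x : G)) hc
    have hcv : (v : G) * c = c * v := Subgroup.mem_centralizer_iff.1 c.2 v v.2
    show (c : G) * ((v : G) * y) * (c : G)⁻¹ = (v : G) * _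
    rw [← hc', ← mul_assoc, ← hcv]
    group
  have hsub : Img R τ ⊆ Set.range f := by
    rintro C ⟨v, hv, y, hy, hτ, rfl⟩
    exact ⟨_, hval ⟨v, hv⟩ ⟨y, hy⟩ (piEl_coe.1 hτ)⟩
  let Fx : Set (R × Y) := {a | (a.1 : G) ∈ F}
  have hFx : Nat.card Fx = Nat.card F * Nat.card Y := by
    rw [← Nat.card_prod]
    exact Nat.card_congr
      { toFun := fun a => (⟨_, a.2⟩, a.1.2)
        invFun := fun b => ⟨(⟨b.1.1, hFR b.1.2⟩, b.2), b.1.2⟩
        left_inv := fun a => rfl
        right_inv := fun b => rfl }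
  have hfib : ∀ a, a ∉ Fx → s ≤ Nat.card {a' : R × Y // f a' = f a} := by
    rintro ⟨⟨v, hv⟩, C, y, hy, rfl⟩ hvF
    refine (hmove v hv hvF).trans ?_
    have hmem : ∀ v' : {v' : G // ∃ t ∈ Subgroup.normalizer (R : Set G), t * v * t⁻¹ = v'},
        ∃ a : {a' : R × Y // f a' = f (⟨v, hv⟩, ⟨ConjClasses.mk y, y, hy, rfl⟩)}, (a.1.1 : G) = v' := by
      rintro ⟨v', t, ht, rfl⟩
      have hv' : t * v * t⁻¹ ∈ R := (Subgroup.mem_normalizer_iff.1 ht v).1 hv
      let y' : Subgroup.centralizer (R : Set G) := ⟨t * (y : G) * t⁻¹, conj_mem_centralizer ht y.2⟩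
      have hy' : PiEl τ y' := piEl_coe.1 ((piEl_coe.2 hy).conj t)
      refine ⟨⟨(⟨_, hv'⟩, ⟨ConjClasses.mk y', y', hy', rfl⟩), ?_⟩, rfl⟩
      rw [hval _ _ hy', hval _ _ hy]
      refine ConjClasses.mk_eq_mk_iff_isConj.2 (IsConj.symm (isConj_iff.2 ⟨t, ?_⟩))
      show t * (v * (y : G)) * t⁻¹ = t * v * t⁻¹ * (t * (y : G) * t⁻¹)
      group
    choose g hg using hmem
    refine Nat.card_le_card_of_injective g fun a b e => Subtype.ext ?_
    rw [← hg a, ← hg b, e]
  calc s * Nat.card (Img R τ) ≤ s * Nat.card (Set.range f) :=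
        Nat.mul_le_mul_left _ (Nat.card_mono (Set.toFinite _) hsub)
    _ ≤ Nat.card (R × Y) + (s - 1) * Nat.card Fx := fibre_bound f Fx s hs hfib
    _ = _ := by rw [Nat.card_prod, hFx]; unfold kpi; simp only [Y]; ring

/-- The main decomposition. -/
theorem mul_kpi_le {r : ℕ} [Fact r.Prime] (R : Sylow r G) (ρ : Finset ℕ) :
    r * kpi (insert r ρ) G ≤
      r * Nat.card (Img (R : Subgroup G) ρ) + Nat.card (Off (R : Subgroup G) ρ) * Nat.card R := by
  classical
  have hr : r.Prime := Fact.out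
  set S := {C : ConjClasses G | ∃ g, PiEl (insert r ρ) g ∧ ConjClasses.mk g = C} with hS
  set T := S \ Img (R : Subgroup G) ρ with hT
  have hTle : r * Nat.card T ≤ Nat.card (Off (R : Subgroup G) ρ) * Nat.card R := by
    let W := Σ D : Off (R : Subgroup G) ρ,
      {C : ConjClasses (Subgroup.centralizer ({outC D.1} : Set G)) // ∃ g, PiEl {r} g ∧ ConjClasses.mk g = C}
    let f : W → ConjClasses G := fun x =>
      ConjClasses.mk (((outC x.2.1 : Subgroup.centralizer ({outC x.1.1} : Set G)) : G) * outC x.1.1)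
    have hsub : T ⊆ Set.range f := by
      rintro C ⟨⟨z, hz, rfl⟩, hni⟩
      rw [Finset.insert_eq] at hz
      obtain ⟨v, w, rfl, hvw, hv, hw⟩ := hz.split
      have hD : ConjClasses.mk w ∈ Off (R : Subgroup G) ρ := by
        refine ⟨⟨w, hw, rfl⟩, ?_⟩
        rintro ⟨y, hy, hyw⟩
        refine hni ?_
        obtain ⟨c, hc⟩ := isConj_iff.1 (ConjClasses.mk_eq_mk_iff_isConj.1 hyw.symm)
        have hv' : c * v * c⁻¹ ∈ Subgroup.centralizer ({y} : Set G) := by
          refine Subgroup.mem_centralizer_singleton_iff.2 ?_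
          rw [← hc]
          calc c * v * c⁻¹ * (c * w * c⁻¹) = c * (v * w) * c⁻¹ := by group
            _ = c * (w * v) * c⁻¹ := by rw [hvw.eq]
            _ = _ := by group
        have hRy : (R : Subgroup G) ≤ Subgroup.centralizer ({y} : Set G) := fun x hx =>
          Subgroup.mem_centralizer_singleton_iff.2 (Subgroup.mem_centralizer_iff.1 hy x hx)
        obtain ⟨e, hey, he⟩ := conj_into _ R hRy _ (hv.conj c).isPGroup
          (Subgroup.zpowers_le.2 hv')
        refine ⟨_, he _ (Subgroup.mem_zpowers _), y, hy, hw.of_isConj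
          (ConjClasses.mk_eq_mk_iff_isConj.1 hyw.symm), ?_⟩
        refine ConjClasses.mk_eq_mk_iff_isConj.2 (IsConj.symm (isConj_iff.2 ⟨e * c, ?_⟩))
        have hey' : e * y * e⁻¹ = y := by
          rw [Subgroup.mem_centralizer_singleton_iff.1 hey, mul_inv_cancel_right]
        calc e * c * (v * w) * (e * c)⁻¹ = e * (c * v * c⁻¹) * e⁻¹ * (e * (c * w * c⁻¹) * e⁻¹) := by group
          _ = _ := by rw [hc, hey']
      obtain ⟨c, hc⟩ := isConj_iff.1 (ConjClasses.mk_eq_mk_iff_isConj.1 (mk_out (ConjClasses.mk w)).symm)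
      have hv' : c * v * c⁻¹ ∈ Subgroup.centralizer ({outC (ConjClasses.mk w)} : Set G) := by
        refine Subgroup.mem_centralizer_singleton_iff.2 ?_
        rw [← hc]
        calc c * v * c⁻¹ * (c * w * c⁻¹) = c * (v * w) * c⁻¹ := by group
          _ = c * (w * v) * c⁻¹ := by rw [hvw.eq]
          _ = _ := by group
      refine ⟨⟨⟨_, hD⟩, ⟨ConjClasses.mk ⟨_, hv'⟩, _, piEl_coe.1 (hv.conj c), rfl⟩⟩, ?_⟩
      obtain ⟨e, he⟩ := isConj_iff.1 (ConjClasses.mk_eq_mk_iff_isConj.1
        (mk_out (ConjClasses.mk (⟨_, hv'⟩ : Subgroup.centralizer ({outC (ConjClasses.mk w)} : Set G)))).symm)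
      have he' := congrArg
        (fun x : Subgroup.centralizer ({outC (ConjClasses.mk w)} : Set G) => (x : G)) he
      simp only [Subgroup.coe_mul, Subgroup.coe_inv] at he'
      refine ConjClasses.mk_eq_mk_iff_isConj.2 (IsConj.symm (isConj_iff.2 ⟨(e : G) * c, ?_⟩))
      have hew : (e : G) * outC (ConjClasses.mk w) * (e : G)⁻¹ = outC (ConjClasses.mk w) := by
        rw [Subgroup.mem_centralizer_singleton_iff.1 e.2, mul_inv_cancel_right]
      calc (e : G) * c * (v * w) * ((e : G) * c)⁻¹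
          = (e : G) * (c * v * c⁻¹) * (e : G)⁻¹ * ((e : G) * (c * w * c⁻¹) * (e : G)⁻¹) := by group
        _ = _ := by rw [he', hc, hew]
    have hsmall : ∀ D : Off (R : Subgroup G) ρ,
        r * Nat.card {C : ConjClasses (Subgroup.centralizer ({outC D.1} : Set G)) //
          ∃ g, PiEl {r} g ∧ ConjClasses.mk g = C} ≤ Nat.card R := by
      intro D
      set Cw := Subgroup.centralizer ({outC D.1} : Set G) with hCw
      have hk := kpi_singleton_le_pow (G := Cw) (r := r)
      unfold kpi at hk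
      refine (Nat.mul_le_mul_left r hk).trans ?_
      obtain ⟨R0⟩ : Nonempty (Sylow r Cw) := inferInstance
      rw [← R0.card_eq_multiplicity]
      set R1 := (R0 : Subgroup Cw).map Cw.subtype
      have hR1 : Nat.card R1 = Nat.card R0 := Subgroup.card_map_of_injective Cw.subtype_injective
      obtain ⟨g, -, hg⟩ := conj_into ⊤ R le_top R1 (R0.2.map _) le_top
      let R2 := R1.map (MulAut.conj g).toMonoidHom
      have hR2le : R2 ≤ (R : Subgroup G) := by rintro _ ⟨x, hx, rfl⟩; exact hg x hx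
      have hR2c : Nat.card R2 = Nat.card R0 :=
        (Subgroup.card_map_of_injective (MulAut.conj g).injective).trans hR1
      rw [← hR2c]
      refine mul_le_of_dvd_ne Nat.card_pos.ne' (Subgroup.card_dvd_of_le hR2le) ?_ ?_
      · intro e
        refine D.2.2 ⟨g * outC D.1 * g⁻¹, ?_,
          (ConjClasses.mk_eq_mk_iff_isConj.2 (IsConj.symm (isConj_iff.2 ⟨g, rfl⟩))).trans (mk_out D.1)⟩
        refine Subgroup.mem_centralizer_iff.2 fun x hx => ?_
        obtain ⟨x0, hx0, rfl⟩ : x ∈ R2 := (Subgroup.eq_of_le_of_card_ge hR2le e.ge).ge hx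
        obtain ⟨x1, -, rfl⟩ := hx0
        show g * (x1 : G) * g⁻¹ * (g * outC D.1 * g⁻¹) = g * outC D.1 * g⁻¹ * (g * (x1 : G) * g⁻¹)
        have e1 := Subgroup.mem_centralizer_singleton_iff.1 x1.2
        calc g * (x1 : G) * g⁻¹ * (g * outC D.1 * g⁻¹) = g * ((x1 : G) * outC D.1) * g⁻¹ := by group
          _ = g * (outC D.1 * (x1 : G)) * g⁻¹ := by rw [e1]
          _ = _ := by group
      · intro q hq hd
        obtain ⟨k, hk'⟩ := IsPGroup.iff_card.1 R.2
        rw [hk'] at hd
        exact ((Nat.prime_dvd_prime_iff_eq hq hr).1 (hq.dvd_of_dvd_pow hd)).ge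
    haveI : Finite W := inferInstance
    have h1 : Nat.card T ≤ Nat.card W :=
      (Nat.card_mono (Set.toFinite _) hsub).trans
        (Nat.card_le_card_of_surjective _ Set.rangeFactorization_surjective)
    refine (Nat.mul_le_mul_left r h1).trans ?_
    haveI := Fintype.ofFinite (Off (R : Subgroup G) ρ)
    simp only [W]
    rw [Nat.card_sigma, Finset.mul_sum]
    refine (Finset.sum_le_sum fun D _ => hsmall D).trans (le_of_eq ?_)
    rw [Finset.sum_const, Finset.card_univ, smul_eq_mul, ← Nat.card_eq_fintype_card]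
  have h2 : kpi (insert r ρ) G ≤ Nat.card (Img (R : Subgroup G) ρ) + Nat.card T := by
    have e : kpi (insert r ρ) G = S.ncard := Nat.card_coe_set_eq S
    rw [e, Nat.card_coe_set_eq, Nat.card_coe_set_eq]
    refine le_trans (Set.ncard_le_ncard (fun C hC => ?_) (Set.toFinite _))
      (Set.ncard_union_le (Img (R : Subgroup G) ρ) T)
    by_cases h : C ∈ Img (R : Subgroup G) ρ
    exacts [Or.inl h, Or.inr ⟨hC, h⟩]
  calc r * kpi (insert r ρ) G ≤ r * (Nat.card (Img (R : Subgroup G) ρ) + Nat.card T) :=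
        Nat.mul_le_mul_left r h2
    _ ≤ _ := by rw [mul_add]; exact Nat.add_le_add_left hTle _

end Cfsg.Agent.Solv.PiCount
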