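import Cfsg.Agent.Lib.Solv.PiClassCount.Bounds

/-!
Many classes of `π`-elements give a nilpotent Hall `π`-subgroup.
-/

set_option autoImplicit false
set_option linter.style.haveILetI false
set_option linter.unusedSectionVars false

open scoped commutatorElement

namespace Cfsg.Agent.Solv.PiCount

open Cfsg.Agent.Perm.NilpotentHall

universe u

variable {G : Type u} [Group G] [Finite G]

theorem join_hall {A B : Subgroup G} [hA : Group.IsNilpotent A] [hB : Group.IsNilpotent B]
    (hc : ∀ a ∈ A, ∀ b ∈ B, a * b = b * a) (hco : (Nat.card A).Coprime (Nat.card B)) :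
    ∃ H : Subgroup G, Nat.card H = Nat.card A * Nat.card B ∧ Group.IsNilpotent H := by
  have comm : ∀ (a : A) (b : B), Commute (A.subtype a) (B.subtype b) := fun a b => hc a a.2 b b.2
  set f := A.subtype.noncommCoprod B.subtype comm with hf
  refine ⟨f.range, ?_, Group.nilpotent_of_surjective f.rangeRestrict f.rangeRestrict_surjective⟩
  have hr : f.range = A ⊔ B := by
    rw [hf, MonoidHom.noncommCoprod_range, Subgroup.range_subtype, Subgroup.range_subtype]
  have h := card_sup_mul_card_inf' A B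
    (le_trans (fun b hb => Subgroup.mem_centralizer_iff.2 fun a ha => hc a ha b hb)
      (Subgroup.centralizer_le_normalizer _))
  rw [coprime_inf hco, Subgroup.card_bot, mul_one] at h
  rw [hr, h]

theorem pow_le_part {r : ℕ} [Fact r.Prime] (X : Subgroup G) :
    r ^ (Nat.card X).factorization r ≤ r ^ (Nat.card G).factorization r :=
  Nat.pow_le_pow_right (Fact.out : r.Prime).pos
    ((Nat.factorization_le_iff_dvd Nat.card_pos.ne' Nat.card_pos.ne').2 (Subgroup.card_subgroup_dvd_card X) r)

/-- Dropping a prime keeps the hypothesis. -/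
theorem many_erase {π : Finset ℕ} {p x : ℕ} (hπ : ∀ q ∈ π, q.Prime) (hx : x ∈ π)
    (hmany : piPart π (Nat.card G) < p * kpi π G) :
    piPart (π.erase x) (Nat.card G) < p * kpi (π.erase x) G := by
  haveI : Fact x.Prime := ⟨hπ x hx⟩
  have h : kpi π G ≤ kpi (π.erase x) G * x ^ (Nat.card G).factorization x :=
    kpi_le_sum (σ := {x}) (by rw [← Finset.insert_eq, Finset.insert_erase hx]) _
      fun w _ => kpi_singleton_le_pow.trans (pow_le_part _)
  have h2 := hmany.trans_le (Nat.mul_le_mul_left p h)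
  have e : piPart π (Nat.card G) = x ^ (Nat.card G).factorization x * piPart (π.erase x) (Nat.card G) := by
    conv_lhs => rw [← Finset.insert_erase hx]
    exact piPart_insert (Finset.notMem_erase x π)
  rw [e, ← mul_assoc, mul_comm] at h2
  exact Nat.lt_of_mul_lt_mul_right h2

/-- The centraliser of a Sylow subgroup either gives the Hall subgroup or has few classes. -/
theorem centralizer_bound {r p : ℕ} [Fact r.Prime] (R : Sylow r G) (hR : Group.IsNilpotent (R : Subgroup G))
    {ρ : Finset ℕ} (hρ : ∀ x ∈ ρ, x.Prime ∧ p ≤ x) (hrρ : r ∉ ρ)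
    (IH : ∀ (C : Subgroup G), piPart ρ (Nat.card C) < p * kpi ρ C →
      ∃ H : Subgroup C, Nat.card H = piPart ρ (Nat.card C) ∧ Group.IsNilpotent H) :
    (∃ H : Subgroup G, Nat.card H = piPart (insert r ρ) (Nat.card G) ∧ Group.IsNilpotent H) ∨
      p * kpi ρ (Subgroup.centralizer ((R : Subgroup G) : Set G)) ≤ piPart ρ (Nat.card G) := by
  set C := Subgroup.centralizer ((R : Subgroup G) : Set G)
  have hρ' : ∀ x ∈ ρ, x.Prime := fun x hx => (hρ x hx).1
  have hdvd : piPart ρ (Nat.card C) ∣ piPart ρ (Nat.card G) :=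
    piPart_dvd_piPart (Subgroup.card_subgroup_dvd_card C) Nat.card_pos.ne'
  by_cases hfull : piPart ρ (Nat.card C) = piPart ρ (Nat.card G)
  · by_cases hm : piPart ρ (Nat.card G) < p * kpi ρ C
    · refine Or.inl ?_
      obtain ⟨L, hL, hLn⟩ := IH C (hfull.symm ▸ hm)
      have hLc : Nat.card (L.map C.subtype) = piPart ρ (Nat.card G) := by
        rw [Subgroup.card_map_of_injective C.subtype_injective, hL, hfull]
      haveI := hR
      haveI : Group.IsNilpotent (L.map C.subtype) :=
        Group.nilpotent_of_mulEquiv (L.equivMapOfInjective C.subtype C.subtype_injective)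
      obtain ⟨H, hH, hHn⟩ := join_hall (A := (R : Subgroup G)) (B := L.map C.subtype)
        (fun a ha b hb => Subgroup.mem_centralizer_iff.1 (Subgroup.map_subtype_le L hb) a ha)
        (by rw [hLc, R.card_eq_multiplicity]; exact (piPart_coprime hρ' Fact.out hrρ _ _).symm)
      exact ⟨H, by rw [hH, hLc, piPart_insert hrρ, R.card_eq_multiplicity], hHn⟩
    · exact Or.inr (not_lt.1 hm)
  · refine Or.inr ((Nat.mul_le_mul_left p (kpi_le_piPart hρ' C)).trans ?_)
    exact mul_le_of_dvd_ne (piPart_pos hρ' _).ne' hdvd hfull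
      fun q hq hd => (hρ q (prime_dvd_piPart hρ' hq hd).1).2

theorem arith_main {p r k b a Y f I J n : ℕ} (hr : p + 2 ≤ r) (h0 : r * k ≤ r * I + J * a)
    (h1 : 2 * I ≤ Y * (a + f)) (h2 : p * Y ≤ b) (h3 : r * f ≤ a) (h4 : J ≤ n)
    (h5 : 2 * p * n ≤ (p + 1) * b) : p * k ≤ a * b := by
  have e1 : 2 * p * (r * k) ≤ 2 * p * (r * I) + 2 * p * (J * a) := by nlinarith
  have e2 : 2 * p * (r * I) ≤ r * ((p * Y) * (a + f)) := by nlinarith [Nat.mul_le_mul_left (p * r) h1]
  have e3 : r * ((p * Y) * (a + f)) ≤ r * (b * (a + f)) :=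
    Nat.mul_le_mul_left r (Nat.mul_le_mul_right _ h2)
  have e4 : 2 * p * (J * a) ≤ (p + 1) * b * a := by
    calc 2 * p * (J * a) = 2 * p * J * a := by ring
      _ ≤ 2 * p * n * a := Nat.mul_le_mul_right _ (Nat.mul_le_mul_left _ h4)
      _ ≤ _ := Nat.mul_le_mul_right _ h5
  have e5 : r * (b * (a + f)) + (p + 1) * b * a ≤ 2 * r * (a * b) := by
    have e6 : r * (b * (a + f)) = r * a * b + (r * f) * b := by ring
    have e7 : (r * f) * b ≤ a * b := Nat.mul_le_mul_right _ h3
    have e8 : (p + 2) * (a * b) ≤ r * (a * b) := Nat.mul_le_mul_right _ hr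
    rw [e6]; nlinarith
  have e9 : 2 * r * (p * k) ≤ 2 * r * (a * b) := by nlinarith
  exact Nat.le_of_mul_le_mul_left e9 (by omega)

theorem arith_three {k a b Y f I J : ℕ} (h0 : 3 * k ≤ 3 * I + J * a) (h1 : 2 * I ≤ Y * (a + f))
    (h3 : 3 * f ≤ a) (h4 : 4 * Y + 2 * J ≤ 3 * b) : 2 * k ≤ a * b := by
  have e1 : 6 * I ≤ Y * (4 * a) := by nlinarith [Nat.mul_le_mul_left 3 h1, Nat.mul_le_mul_left Y h3]
  have e2 : a * (4 * Y + 2 * J) ≤ a * (3 * b) := Nat.mul_le_mul_left a h4
  nlinarith

theorem arith_two {k a b Y f I J n f3 : ℕ} (h0 : 2 * k ≤ 2 * I + J * b) (h1 : 3 * I ≤ Y * (b + 2 * f))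
    (h2 : 3 * Y ≤ a) (h3 : 4 * f ≤ b) (h4 : J ≤ n) (h5 : 2 * n ≤ a + f3) (h6 : 3 * f3 ≤ a) :
    2 * k ≤ a * b := by
  have e1 : 18 * I ≤ a * (2 * b + 4 * f) := by
    nlinarith [Nat.mul_le_mul_left 6 h1, Nat.mul_le_mul_right (2 * b + 4 * f) h2]
  have e2 : a * (4 * f) ≤ a * b := Nat.mul_le_mul_left a h3
  have e3 : 3 * J ≤ 2 * a := by omega
  have e4 : 3 * J * b ≤ 2 * a * b := Nat.mul_le_mul_right b e3
  nlinarith

/-- The exceptional case `{2, 3}` with a non-abelian Sylow `2`-subgroup. -/
theorem bound_nonabelian (R C : Subgroup G) (hC : C = Subgroup.centralizer (R : Set G)) (R0 : Sylow 2 C)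
    (P : Sylow 2 G) (hle : (R0 : Subgroup C).map C.subtype ≤ P)
    (hlt : Nat.card R0 ≠ Nat.card P) (hna : ¬ IsMulCommutative (P : Subgroup G)) :
    4 * kpi {2} C + 2 * Nat.card (Off R {2}) ≤ 3 * Nat.card P := by
  classical
  haveI : Fact (Nat.Prime 2) := ⟨Nat.prime_two⟩
  set W := ((R0 : Subgroup C).map C.subtype).subgroupOf (P : Subgroup G) with hW
  have hWc : Nat.card W = Nat.card R0 := by
    rw [hW, Nat.card_congr (Subgroup.subgroupOfEquivOfLe hle).toEquiv,
      Subgroup.card_map_of_injective C.subtype_injective]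
  have hY : kpi {2} C ≤ Nat.card (ConjClasses (R0 : Subgroup C)) := kpi_singleton_le R0
  have hY' : kpi {2} C ≤ Nat.card R0 :=
    hY.trans (Nat.card_le_card_of_surjective _ ConjClasses.mk_surjective)
  have hJ : Nat.card (Off R {2}) ≤
      Nat.card {K : ConjClasses (P : Subgroup G) // ∀ x, ConjClasses.mk x = K → x ∉ W} := by
    let f : {K : ConjClasses (P : Subgroup G) // ∀ x, ConjClasses.mk x = K → x ∉ W} → ConjClasses G :=
      fun K => ConjClasses.mk ((outC K.1 : (P : Subgroup G)) : G)
    refine (Nat.card_mono (Set.toFinite (Set.range f)) ?_).trans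
      (Nat.card_le_card_of_surjective _ Set.rangeFactorization_surjective)
    rintro D ⟨⟨w, hw, rfl⟩, hno⟩
    obtain ⟨k, -, hk⟩ := conj_into ⊤ P le_top _ hw.isPGroup le_top
    set x : (P : Subgroup G) := ⟨k * w * k⁻¹, hk w (Subgroup.mem_zpowers w)⟩
    have hmk : ∀ y : (P : Subgroup G), IsConj x y → ConjClasses.mk (y : G) = ConjClasses.mk w := fun y hy =>
      ConjClasses.mk_eq_mk_iff_isConj.2 (IsConj.symm (IsConj.trans (isConj_iff.2 ⟨k, rfl⟩)
        ((P : Subgroup G).subtype.map_isConj hy)))
    refine ⟨⟨ConjClasses.mk x, fun y hy hyW => hno ⟨(y : G), ?_, hmk y ?_⟩⟩, ?_⟩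
    · exact hC ▸ Subgroup.map_subtype_le _ (Subgroup.mem_subgroupOf.1 hyW)
    · exact (ConjClasses.mk_eq_mk_iff_isConj.1 hy).symm
    · exact hmk _ (ConjClasses.mk_eq_mk_iff_isConj.1 (mk_out (ConjClasses.mk x)).symm)
  have hP8 : 8 * Nat.card (ConjClasses (P : Subgroup G)) ≤ 5 * Nat.card P := by
    have := cube_classes_le (le_refl 2) (pPrimes_of_sylow (le_refl 2) P) hna
    simpa [mul_comm] using this
  have hall : Nat.card {K : ConjClasses (P : Subgroup G) // ∀ x, ConjClasses.mk x = K → x ∉ W} ≤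
      Nat.card (ConjClasses (P : Subgroup G)) := Nat.card_le_card_of_injective Subtype.val Subtype.val_injective
  have hWP : Nat.card W * W.index = Nat.card P := W.card_mul_index
  have hidx1 : W.index ≠ 1 := fun h => hlt (by rw [← hWc, ← hWP, h, mul_one])
  have hidx0 : W.index ≠ 0 := Subgroup.index_ne_zero_of_finite
  by_cases h2 : W.index = 2
  · rw [h2, hWc] at hWP
    by_cases hcen : ∃ x : (P : Subgroup G), x ∉ W ∧ x ∈ Subgroup.center (P : Subgroup G)
    · obtain ⟨x, hxW, hxc⟩ := hcen
      have hWna : ¬ IsMulCommutative (R0 : Subgroup C) := by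
        intro hab
        refine hna (isMulCommutative_iff.2 ?_)
        have hWab : ∀ a ∈ W, ∀ b ∈ W, a * b = b * a := by
          intro a ha b hb
          obtain ⟨a', ha', hae⟩ := Subgroup.mem_subgroupOf.1 ha
          obtain ⟨b', hb', hbe⟩ := Subgroup.mem_subgroupOf.1 hb
          have h' : a' * b' = b' * a' := comm_of_mem hab ha' hb'
          refine Subtype.ext ?_
          rw [Subgroup.coe_mul, Subgroup.coe_mul, ← hae, ← hbe]
          show (a' : G) * b' = b' * a'
          exact congrArg Subtype.val h'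
        have hx1 : ∀ g, g * x = x * g := Subgroup.mem_center_iff.1 hxc
        have hnf : ∀ a : (P : Subgroup G), ∃ w ∈ W, a = w ∨ a = x * w := by
          intro a
          by_cases ha : a ∈ W
          · exact ⟨a, ha, Or.inl rfl⟩
          refine ⟨x⁻¹ * a, ?_, Or.inr (by group)⟩
          exact (Subgroup.mul_mem_iff_of_index_two h2).2
            ⟨fun h => absurd (W.inv_mem_iff.1 h) hxW, fun h => absurd h ha⟩
        intro a b
        have key : ∀ c, c = x ∨ c ∈ W → ∀ d, d = x ∨ d ∈ W → c * d = d * c := by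
          rintro c (rfl | hc) d (rfl | hd)
          exacts [rfl, (hx1 d).symm, hx1 c, hWab c hc d hd]
        have key2 : ∀ c, c = x ∨ c ∈ W → Commute c a := by
          intro c hc
          obtain ⟨w, hw, rfl | rfl⟩ := hnf a
          · exact key c hc a (Or.inr hw)
          · exact Commute.mul_right (key c hc x (Or.inl rfl)) (key c hc w (Or.inr hw))
        obtain ⟨w, hw, rfl | rfl⟩ := hnf b
        · exact (key2 b (Or.inr hw)).symm.eq
        · exact (Commute.mul_left (key2 x (Or.inl rfl)) (key2 w (Or.inr hw))).symm.eq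
      have hY8 : 8 * kpi {2} C ≤ 5 * Nat.card R0 := by
        have := cube_classes_le (le_refl 2) (pPrimes_of_sylow (le_refl 2) R0) hWna
        refine (Nat.mul_le_mul_left 8 hY).trans ?_
        simpa [mul_comm] using this
      omega
    · push Not at hcen
      have := outside_classes_le W h2 hcen
      rw [hWc] at this
      omega
  · have h3 : 3 ≤ W.index := by omega
    have h4 : W.index ≠ 3 := by
      intro h
      have hd : 3 ∣ Nat.card (P : Subgroup G) := h ▸ W.index_dvd_card
      have := pPrimes_of_sylow (le_refl 2) P 3 Nat.prime_three hd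
      obtain ⟨k, hk⟩ := IsPGroup.iff_card.1 P.2
      rw [hk] at hd
      exact absurd ((Nat.prime_dvd_prime_iff_eq Nat.prime_three Nat.prime_two).1
        (Nat.prime_three.dvd_of_dvd_pow hd)) (by norm_num)
    have h5 : Nat.card R0 * 4 ≤ Nat.card P := by
      rw [← hWP, hWc]; exact Nat.mul_le_mul_left _ (by omega)
    omega

/-- The theorem. -/
theorem exists_nilpotent_hall (p : ℕ) (hp : 2 ≤ p) : ∀ π : Finset ℕ, (∀ q ∈ π, q.Prime ∧ p ≤ q) →
    ∀ (G : Type u) [Group G] [Finite G], piPart π (Nat.card G) < p * kpi π G →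
      ∃ H : Subgroup G, Nat.card H = piPart π (Nat.card G) ∧ Group.IsNilpotent H := by
  intro π
  induction π using Finset.strongInduction with
  | _ π IH =>
  intro hπ G _ _ hmany
  classical
  have hπ' : ∀ q ∈ π, q.Prime := fun q hq => (hπ q hq).1
  rcases π.eq_empty_or_nonempty with rfl | hne
  · exact ⟨⊥, by rw [Subgroup.card_bot]; rfl, inferInstance⟩
  have IH' : ∀ x ∈ π, ∃ L : Subgroup G, Nat.card L = piPart (π.erase x) (Nat.card G) ∧ Group.IsNilpotent L :=
    fun x hx => IH _ (Finset.erase_ssubset hx) (fun q hq => hπ q (Finset.mem_of_mem_erase hq)) G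
      (many_erase hπ' hx hmany)
  by_cases hall : ∃ x ∈ π, ¬ x ∣ Nat.card G
  · obtain ⟨x, hx, hxd⟩ := hall
    obtain ⟨L, hL, hLn⟩ := IH' x hx
    refine ⟨L, ?_, hLn⟩
    conv_rhs => rw [← Finset.insert_erase hx]
    rw [piPart_insert (Finset.notMem_erase x π), hL, Nat.factorization_eq_zero_of_not_dvd hxd,
      pow_zero, one_mul]
  push Not at hall
  -- complement case for any prime
  have hburn : ∀ x ∈ π, ∀ [Fact x.Prime] (Q : Sylow x G), IsMulCommutative (Q : Subgroup G) →
      Subgroup.normalizer ((Q : Subgroup G) : Set G) ≤ Subgroup.centralizer ((Q : Subgroup G) : Set G) →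
      ∃ H : Subgroup G, Nat.card H = piPart π (Nat.card G) ∧ Group.IsNilpotent H := by
    intro x hx _ Q _ hN
    obtain ⟨L, hL, hLn⟩ := IH' x hx
    have := hall_of_complement Q hN (σ := π.erase x) (fun q hq => hπ' q (Finset.mem_of_mem_erase hq))
      (Finset.notMem_erase x π) L hLn hL hp
      (fun q hq => (hπ q (by rwa [Finset.insert_erase hx] at hq)).2)
      (by rw [Finset.insert_erase hx]; exact hmany)
    rwa [Finset.insert_erase hx] at this
  set r := π.max' hne with hr
  have hrπ : r ∈ π := π.max'_mem hne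
  haveI : Fact r.Prime := ⟨hπ' r hrπ⟩
  set ρ := π.erase r with hρdef
  have hins : insert r ρ = π := Finset.insert_erase hrπ
  have hrρ : r ∉ ρ := Finset.notMem_erase r π
  have hρ : ∀ x ∈ ρ, x.Prime ∧ p ≤ x := fun x hx => hπ x (Finset.mem_of_mem_erase hx)
  have hρ' : ∀ x ∈ ρ, x.Prime := fun x hx => (hρ x hx).1
  obtain ⟨R⟩ : Nonempty (Sylow r G) := inferInstance
  have hRn : Group.IsNilpotent (R : Subgroup G) := R.2.isNilpotent
  set a := Nat.card (R : Subgroup G) with ha
  have ha' : a = r ^ (Nat.card G).factorization r := R.card_eq_multiplicity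
  set b := piPart ρ (Nat.card G) with hb
  have hab : piPart π (Nat.card G) = a * b := by rw [← hins, piPart_insert hrρ, ha']
  rw [hab] at hmany ⊢
  have hbpos : 0 < b := piPart_pos hρ' _
  rcases ρ.eq_empty_or_nonempty with he | hρne
  · refine ⟨(R : Subgroup G), ?_, hRn⟩
    rw [hb, he]; exact (mul_one a).symm
  obtain ⟨q, hqρ⟩ := hρne
  haveI : Fact q.Prime := ⟨hρ' q hqρ⟩
  have hqr : q < r := lt_of_le_of_ne (π.le_max' q (Finset.mem_of_mem_erase hqρ)) (Finset.ne_of_mem_erase hqρ)
  have hpq : p ≤ q := (hρ q hqρ).2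
  -- R is abelian
  have hRab : IsMulCommutative (R : Subgroup G) := by
    have h1 : kpi π G ≤ kpi {r} G * b :=
      kpi_le_sum (σ := ρ) (by rw [← hins, Finset.insert_eq, Finset.union_comm]) b
        fun w _ => (kpi_le_piPart hρ' _).trans (Nat.le_of_dvd hbpos
          (piPart_dvd_piPart (Subgroup.card_subgroup_dvd_card _) Nat.card_pos.ne'))
    have h2 : a * b < p * (Nat.card (ConjClasses (R : Subgroup G))) * b := by
      refine hmany.trans_le ?_
      rw [mul_assoc]
      exact Nat.mul_le_mul_left p (h1.trans (Nat.mul_le_mul_right b (kpi_singleton_le R)))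
    have h3 := card_commutator_le hp (pPrimes_of_sylow (hpq.trans hqr.le) R) (Nat.lt_of_mul_lt_mul_right h2)
    have h4 : Nat.card (commutator (R : Subgroup G)) = 1 := by
      by_contra hne1
      obtain ⟨x, hx, hxd⟩ := Nat.exists_prime_and_dvd hne1
      have := pPrimes_of_sylow (le_refl r) R x hx (hxd.trans (Subgroup.card_subgroup_dvd_card _))
      have := Nat.le_of_dvd Nat.card_pos hxd
      omega
    have h5 := Subgroup.eq_bot_of_card_eq _ h4
    refine isMulCommutative_iff.2 fun x y => ?_
    have : ⁅x, y⁆ ∈ commutator (R : Subgroup G) := by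
      rw [commutator_def]
      exact Subgroup.commutator_mem_commutator (Subgroup.mem_top _) (Subgroup.mem_top _)
    rw [h5, Subgroup.mem_bot, commutatorElement_eq_one_iff_mul_comm] at this
    exact this
  by_contra hno
  have hNR : ¬ Subgroup.normalizer ((R : Subgroup G) : Set G) ≤ Subgroup.centralizer ((R : Subgroup G) : Set G) :=
    fun hN => hno (hab ▸ hburn r hrπ R hRab hN)
  have hnob : ¬ ∃ H : Subgroup G, Nat.card H = piPart (insert r ρ) (Nat.card G) ∧ Group.IsNilpotent H := by
    rw [hins, hab]; exact hno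
  have hYb : p * kpi ρ (Subgroup.centralizer ((R : Subgroup G) : Set G)) ≤ b :=
    (centralizer_bound R hRn hρ hrρ fun C hC => IH ρ (Finset.erase_ssubset hrπ) hρ C hC).resolve_left hnob
  have hf := fixedPart_mul_le R hNR
  have hI := card_img_two (R : Subgroup G) ρ
  have hmain := mul_kpi_le R ρ
  rw [hins] at hmain
  have hfew : ∀ x ∈ π, ∀ [Fact x.Prime] (Q : Sylow x G), 2 * p * kpi {x} G ≤ (p + 1) * Nat.card Q :=
    fun x hx _ Q => few_classes hp (hπ x hx).2 Q fun h => hno (hab ▸ hburn x hx Q h.1 h.2)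
  by_cases hr2 : p + 2 ≤ r
  · obtain ⟨Q⟩ : Nonempty (Sylow q G) := inferInstance
    have hn : 2 * p * kpi ρ G ≤ (p + 1) * b := by
      have h1 : kpi ρ G ≤ kpi {q} G * piPart (ρ.erase q) (Nat.card G) :=
        kpi_le_sum (σ := ρ.erase q) (by rw [Finset.union_comm, ← Finset.insert_eq, Finset.insert_erase hqρ]) _
          fun w _ => (kpi_le_piPart (fun x hx => hρ' x (Finset.mem_of_mem_erase hx)) _).trans
            (Nat.le_of_dvd (piPart_pos (fun x hx => hρ' x (Finset.mem_of_mem_erase hx)) _)
              (piPart_dvd_piPart (Subgroup.card_subgroup_dvd_card _) Nat.card_pos.ne'))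
      calc 2 * p * kpi ρ G ≤ 2 * p * (kpi {q} G * piPart (ρ.erase q) (Nat.card G)) := Nat.mul_le_mul_left _ h1
        _ = 2 * p * kpi {q} G * piPart (ρ.erase q) (Nat.card G) := by ring
        _ ≤ (p + 1) * Nat.card Q * piPart (ρ.erase q) (Nat.card G) :=
          Nat.mul_le_mul_right _ (hfew q (Finset.mem_of_mem_erase hqρ) Q)
        _ = (p + 1) * b := by
          rw [hb, mul_assoc, Q.card_eq_multiplicity, ← piPart_insert (Finset.notMem_erase q ρ),
            Finset.insert_erase hqρ]
    exact absurd (arith_main hr2 hmain hI hYb hf (card_off_le _ _) hn) (not_le.2 hmany)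
  -- the primes are two and three
  have hqp : q = p := by omega
  have hrp : r = p + 1 := by omega
  have hp2 : p = 2 := by
    have h1 : p.Prime := hqp ▸ hρ' q hqρ
    rcases h1.eq_two_or_odd with h | h
    · exact h
    rcases (hπ' r hrπ).eq_two_or_odd with h' | h' <;> omega
  have hρ2 : ρ = {2} := by
    refine Finset.eq_singleton_iff_unique_mem.2 ⟨by rw [← hp2, ← hqp]; exact hqρ, fun x hx => ?_⟩
    have h1 := π.le_max' x (Finset.mem_of_mem_erase hx)
    have h2 := Finset.ne_of_mem_erase hx
    have h3 := (hρ x hx).2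
    omega
  haveI h2F : Fact (Nat.Prime 2) := ⟨Nat.prime_two⟩
  have hr3 : r = 3 := by omega
  set C := Subgroup.centralizer ((R : Subgroup G) : Set G) with hC
  obtain ⟨R0⟩ : Nonempty (Sylow 2 C) := inferInstance
  obtain ⟨P, hP⟩ := (R0.2.map C.subtype).exists_le_sylow
  have hbP : b = Nat.card (P : Subgroup G) := by rw [hb, hρ2, piPart_singleton, P.card_eq_multiplicity]
  have h2π : 2 ∈ π := Finset.mem_of_mem_erase (hρ2.symm ▸ Finset.mem_singleton_self 2)
  by_cases hPab : IsMulCommutative (P : Subgroup G)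
  · have hNP : ¬ Subgroup.normalizer ((P : Subgroup G) : Set G) ≤ Subgroup.centralizer ((P : Subgroup G) : Set G) :=
      fun hN => hno (hab ▸ hburn 2 h2π P hPab hN)
    have hπeq : insert 2 {r} = π := by rw [← hins, hρ2, Finset.pair_comm]
    have hY2 : 3 * kpi {r} (Subgroup.centralizer ((P : Subgroup G) : Set G)) ≤ a := by
      set D := Subgroup.centralizer ((P : Subgroup G) : Set G) with hD
      have hdvd : r ^ (Nat.card D).factorization r ∣ a := by
        rw [ha']
        exact pow_dvd_pow r ((Nat.factorization_le_iff_dvd Nat.card_pos.ne' Nat.card_pos.ne').2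
          (Subgroup.card_subgroup_dvd_card D) r)
      by_cases he : r ^ (Nat.card D).factorization r = a
      · refine absurd ?_ hno
        obtain ⟨S⟩ : Nonempty (Sylow r D) := inferInstance
        haveI : Group.IsNilpotent (P : Subgroup G) := P.2.isNilpotent
        haveI : Group.IsNilpotent ((S : Subgroup D).map D.subtype) := (S.2.map _).isNilpotent
        have hSc : Nat.card ((S : Subgroup D).map D.subtype) = a := by
          rw [Subgroup.card_map_of_injective D.subtype_injective, S.card_eq_multiplicity, he]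
        obtain ⟨H, hH, hHn⟩ := join_hall (A := (P : Subgroup G)) (B := (S : Subgroup D).map D.subtype)
          (fun x hx y hy => Subgroup.mem_centralizer_iff.1 (Subgroup.map_subtype_le _ hy) x hx)
          (by
            rw [hSc, P.card_eq_multiplicity, ha']
            exact Nat.Coprime.pow _ _ ((Nat.coprime_primes Nat.prime_two (hπ' r hrπ)).2 (by omega)))
        exact ⟨H, by rw [hH, hSc, hbP, mul_comm], hHn⟩
      · refine le_trans (Nat.mul_le_mul_left 3 (kpi_singleton_le_pow)) ?_
        refine mul_le_of_dvd_ne Nat.card_pos.ne' hdvd he fun x hx hd => ?_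
        rw [← hr3]
        exact pPrimes_of_sylow (le_refl r) R x hx hd
    have hm := mul_kpi_le P {r}
    rw [hπeq] at hm
    have hI2 := card_img_le (P : Subgroup G) (fixedPart (P : Subgroup G)) {r} (fixedPart_le _) 3 (by norm_num)
      fun v hv hvF => three_le_moved P hPab hv hvF
    have h3 := fixedPart_four_le P hPab hNP
    have h6 : 3 * Nat.card (fixedPart (R : Subgroup G)) ≤ a := hr3 ▸ hf
    refine absurd ?_ (not_le.2 hmany)
    rw [hp2, hbP]
    exact arith_two hm (by simpa using hI2) hY2 h3 (card_off_le _ _) (two_kpi_singleton_le R) h6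
  · have hlt : Nat.card R0 ≠ Nat.card (P : Subgroup G) := by
      intro e
      refine hno ?_
      haveI := hRn
      haveI : Group.IsNilpotent ((R0 : Subgroup C).map C.subtype) := (R0.2.map _).isNilpotent
      obtain ⟨H, hH, hHn⟩ := join_hall (A := (R : Subgroup G)) (B := (R0 : Subgroup C).map C.subtype)
        (fun x hx y hy => Subgroup.mem_centralizer_iff.1 (Subgroup.map_subtype_le _ hy) x hx)
        (by
          rw [Subgroup.card_map_of_injective C.subtype_injective, R0.card_eq_multiplicity, R.card_eq_multiplicity]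
          exact Nat.Coprime.pow _ _ ((Nat.coprime_primes (hπ' r hrπ) Nat.prime_two).2 (by omega)))
      exact ⟨H, by rw [hH, Subgroup.card_map_of_injective C.subtype_injective, e, hbP, ha], hHn⟩
    have h4 := bound_nonabelian (R : Subgroup G) C hC R0 P hP hlt hPab
    refine absurd ?_ (not_le.2 hmany)
    rw [hp2, hbP]
    rw [hρ2] at hI hmain
    exact arith_three (hr3 ▸ hmain) hI (hr3 ▸ hf) h4

end Cfsg.Agent.Solv.PiCount
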