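import Cfsg.Agent.Lib.Solv.PiClassCount.Main

/-!
The same, with the `π`-part given by a number.
-/

set_option autoImplicit false
set_option linter.style.haveILetI false

namespace Cfsg.Agent.Solv.PiCount

universe u

theorem exists_hall_of_many {G : Type u} [Group G] [Finite G]
    (π : Set ℕ) (hπ : ∀ q ∈ π, q.Prime) (p : ℕ) (hp : p ∈ π) (hmin : ∀ q ∈ π, p ≤ q)
    (m : ℕ) (hm : m ∣ Nat.card G) (hmπ : ∀ q : ℕ, q.Prime → q ∣ m → q ∈ π)
    (hm' : ∀ q ∈ π, ¬ q ∣ Nat.card G / m)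
    (k : ℕ) (hk : k = Nat.card {C : ConjClasses G // ∀ q : ℕ, q.Prime → (∃ g : G, ConjClasses.mk g = C ∧ q ∣ orderOf g) → q ∈ π})
    (hmany : m < p * k) :
    ∃ H : Subgroup G, Nat.card H = m ∧ Group.IsNilpotent H ∧
      (∀ q : ℕ, q.Prime → q ∣ Nat.card H → p ≤ q) ∧ k ≤ Nat.card (ConjClasses H) := by
  classical
  set πf : Finset ℕ := (Nat.card G).primeFactors.filter (· ∈ π) with hπf
  have hmem : ∀ q, q ∈ πf ↔ q.Prime ∧ q ∣ Nat.card G ∧ q ∈ π := fun q => by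
    rw [hπf, Finset.mem_filter, Nat.mem_primeFactors]
    exact ⟨fun h => ⟨h.1.1, h.1.2.1, h.2⟩, fun h => ⟨⟨h.1, h.2.1, Nat.card_pos.ne'⟩, h.2.2⟩⟩
  have hπp : ∀ q ∈ πf, q.Prime ∧ p ≤ q := fun q hq => ⟨((hmem q).1 hq).1, hmin q ((hmem q).1 hq).2.2⟩
  have hπ' : ∀ q ∈ πf, q.Prime := fun q hq => (hπp q hq).1
  obtain ⟨c, hc⟩ := hm
  have hm0 : m ≠ 0 := fun h => Nat.card_pos.ne' (by rw [hc, h, zero_mul])
  have hc0 : c ≠ 0 := fun h => Nat.card_pos.ne' (by rw [hc, h, mul_zero])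
  have hmeq : piPart πf (Nat.card G) = m := by
    refine Nat.eq_of_factorization_eq (piPart_pos hπ' _).ne' hm0 fun q => ?_
    rw [factorization_piPart hπ']
    split_ifs with hq
    · have h1 := hm' q ((hmem q).1 hq).2.2
      rw [hc, Nat.mul_div_cancel_left _ (Nat.pos_of_ne_zero hm0)] at h1
      rw [hc, Nat.factorization_mul hm0 hc0, Finsupp.add_apply, Nat.factorization_eq_zero_of_not_dvd h1, add_zero]
    · symm
      by_contra h0
      have hd : q ∣ m := Nat.dvd_of_factorization_pos h0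
      have hqp : q.Prime := Nat.prime_of_mem_primeFactors (Finsupp.mem_support_iff.2 h0)
      exact hq ((hmem q).2 ⟨hqp, hd.trans (Dvd.intro c hc.symm), hmπ q hqp hd⟩)
  have hkeq : k = kpi πf G := by
    rw [hk]
    unfold kpi
    refine Nat.card_congr (Equiv.subtypeEquivRight fun C => ⟨fun h => ?_, ?_⟩)
    · obtain ⟨g, rfl⟩ := ConjClasses.exists_rep C
      exact ⟨g, fun q hq hd => (hmem q).2 ⟨hq, hd.trans (orderOf_dvd_natCard g), h q hq ⟨g, rfl, hd⟩⟩, rfl⟩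
    · rintro ⟨g, hg, rfl⟩ q hq ⟨g', hg', hd⟩
      exact ((hmem q).1 ((hg.of_isConj (ConjClasses.mk_eq_mk_iff_isConj.1 hg'.symm)) q hq hd)).2.2
  have hp2 : 2 ≤ p := (hπ p hp).two_le
  obtain ⟨H, hH, hHn⟩ := exists_nilpotent_hall p hp2 πf hπp G (by rw [hmeq, ← hkeq]; exact hmany)
  refine ⟨H, hH.trans hmeq, hHn, fun q hq hd => (hπp q (prime_dvd_piPart hπ' hq (hH ▸ hd)).1).2, ?_⟩
  rw [hkeq]
  refine Nat.card_le_card_of_surjective (fun C : ConjClasses H =>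
    (⟨ConjClasses.mk ((outC C : H) : G), _, fun q hq hd => ?_, rfl⟩ :
      {C : ConjClasses G // ∃ g : G, PiEl πf g ∧ ConjClasses.mk g = C})) ?_
  · exact (prime_dvd_piPart hπ' hq (hH ▸ hd.trans (Subgroup.orderOf_dvd_natCard H (outC C).2))).1
  · rintro ⟨C, z, hz, rfl⟩
    haveI := hHn
    haveI : Group.IsNilpotent (Subgroup.zpowers z) := by
      letI : CommGroup (Subgroup.zpowers z) :=
        { (inferInstance : Group (Subgroup.zpowers z)) with
          mul_comm := fun a b => Subtype.ext (setLike_mul_comm a.2 b.2) }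
      infer_instance
    obtain ⟨c, -, hc'⟩ := Cfsg.Agent.Perm.NilpotentHall.nilpotent_conj _ (Subgroup.zpowers z) ⊤ H rfl
      le_top le_top hHn inferInstance (fun q hq hd =>
        not_dvd_index_of_card hπ' hH (hz q hq (Nat.card_zpowers z ▸ hd)))
    refine ⟨ConjClasses.mk ⟨_, hc' z (Subgroup.mem_zpowers z)⟩, Subtype.ext ?_⟩
    refine ConjClasses.mk_eq_mk_iff_isConj.2 (IsConj.trans ?_ (IsConj.symm (isConj_iff.2 ⟨c, rfl⟩)))
    exact H.subtype.map_isConj (ConjClasses.mk_eq_mk_iff_isConj.1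
      (mk_out (ConjClasses.mk (⟨_, hc' z (Subgroup.mem_zpowers z)⟩ : H))))

end Cfsg.Agent.Solv.PiCount
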